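import Groth.Agent.Hensel.LocalSplit
import Mathlib.Algebra.Group.Pi.Units
set_option autoImplicit false
set_option linter.all false
universe u

namespace Groth.Agent.CalgC.HenselIntDom

theorem isLocalRing_of_finite {A B : Type u} [CommRing A] [HenselianLocalRing A] [CommRing B]
    [IsDomain B] [Algebra A B] [Module.Finite A B] : IsLocalRing B := by
  obtain ⟨ι, _, X, _, hX, ⟨e⟩⟩ := Groth.Agent.Hensel.LocalSplit.finite_algebra_pi A B
  classical
  have hne : Nonempty ι := by
    by_contra h
    rw [not_nonempty_iff] at h
    have : (1 : B) = 0 := e.injective (funext fun i => h.elim i)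
    exact one_ne_zero this
  obtain ⟨i₀⟩ := hne
  have huniq : ∀ i, i = i₀ := by
    intro i
    by_contra hi
    have := hX i
    have := hX i₀
    have h1 : e.symm (Pi.single i 1) * e.symm (Pi.single i₀ 1) = 0 := by
      rw [← map_mul, ← map_zero e.symm]
      congr 1
      ext j
      by_cases hj : j = i
      · subst hj
        simp [hi]
      · simp [Pi.single_eq_of_ne hj]
    rcases mul_eq_zero.1 h1 with h2 | h2
    · have h3 := congrArg (fun b => e b i) h2
      simp at h3
    · have h3 := congrArg (fun b => e b i₀) h2
      simp at h3
  have := hX i₀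
  refine IsLocalRing.of_isUnit_or_isUnit_one_sub_self fun b => ?_
  rcases IsLocalRing.isUnit_or_isUnit_one_sub_self (e b i₀) with h | h
  · left
    rw [← MulEquiv.isUnit_map e.toMulEquiv]
    show IsUnit (e b)
    rw [Pi.isUnit_iff]
    intro i
    obtain rfl := huniq i
    exact h
  · right
    rw [← MulEquiv.isUnit_map e.toMulEquiv]
    show IsUnit (e (1 - b))
    rw [Pi.isUnit_iff]
    intro i
    obtain rfl := huniq i
    simpa using h

/-- A domain integral over a henselian local ring is local. -/
theorem isLocalRing_of_isIntegral {A B : Type u} [CommRing A] [HenselianLocalRing A] [CommRing B]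
    [IsDomain B] [Algebra A B] [Algebra.IsIntegral A B] : IsLocalRing B := by
  refine IsLocalRing.of_isUnit_or_isUnit_one_sub_self fun b => ?_
  let C := Algebra.adjoin A {b}
  haveI : Module.Finite A C := Algebra.finite_adjoin_simple_of_isIntegral (Algebra.IsIntegral.isIntegral b)
  haveI : IsLocalRing C := isLocalRing_of_finite (A := A)
  let b' : C := ⟨b, Algebra.self_mem_adjoin_singleton A b⟩
  rcases IsLocalRing.isUnit_or_isUnit_one_sub_self b' with h | h
  · left; exact h.map C.val
  · right
    have := h.map C.val
    simpa using this

end Groth.Agent.CalgC.HenselIntDom
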