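import Mathlib.RingTheory.Flat.FaithfullyFlat.Basic
import Mathlib.RingTheory.Flat.FaithfullyFlat.Algebra
import Mathlib.RingTheory.Ideal.GoingDown
import Mathlib.RingTheory.Ideal.MinimalPrime.Basic
import Mathlib.Data.Set.Card

/-!
# Minimal primes along faithfully flat maps with integral extended minimal primes
-/

set_option autoImplicit false
set_option linter.style.haveILetI false

namespace Groth.Agent.CalgC.MinPrimesCount

universe u v

variable {A : Type u} {D : Type v} [CommRing A] [CommRing D] [Algebra A D]

/-- For a faithfully flat ring map, the extension of an ideal contracts back to the ideal. -/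
theorem comap_map_eq [Module.FaithfullyFlat A D] (I : Ideal A) :
    (I.map (algebraMap A D)).comap (algebraMap A D) = I :=
  Ideal.comap_map_eq_self_of_faithfullyFlat I

/-- For a flat ring map, minimal primes contract to minimal primes. -/
theorem comap_mem_minimalPrimes [Module.Flat A D] {Q : Ideal D} (hQ : Q ∈ minimalPrimes D) :
    Q.comap (algebraMap A D) ∈ minimalPrimes A := by
  haveI : Q.IsPrime := hQ.1.1
  haveI : Algebra.HasGoingDown A D := inferInstance
  obtain ⟨P, hP, hPQ⟩ := Ideal.exists_minimalPrimes_le (I := (⊥ : Ideal A)) (J := Q.comap (algebraMap A D)) bot_le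
  haveI : P.IsPrime := hP.1.1
  obtain ⟨Q', hQ', hQ'p, hQ'l⟩ := Ideal.exists_ideal_le_liesOver_of_le (p := P) (q := Q.comap (algebraMap A D)) Q hPQ
  have hle : Q ≤ Q' := hQ.2 ⟨hQ'p, bot_le⟩ hQ'
  have heq : Q = Q' := le_antisymm hle hQ'
  have : Q.comap (algebraMap A D) = P := by
    rw [heq, hQ'l.over, Ideal.under_def]
  rw [this]
  exact hP

/-- If `A → D` is faithfully flat and the extension of every minimal prime of `A` is a prime of `D`, then `P ↦ P·D` is a bijection
between minimal primes. -/
theorem bijOn_map [Module.FaithfullyFlat A D] (h : ∀ P ∈ minimalPrimes A, (P.map (algebraMap A D)).IsPrime) :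
    Set.BijOn (fun P : Ideal A => P.map (algebraMap A D)) (minimalPrimes A) (minimalPrimes D) := by
  refine ⟨fun P hP => ?_, fun P _ P' _ hPP' => ?_, fun Q hQ => ?_⟩
  · refine ⟨⟨h P hP, bot_le⟩, ?_⟩
    rintro Q ⟨hQ, -⟩ hQP
    haveI : Q.IsPrime := hQ
    have h1 : Q.comap (algebraMap A D) ≤ P := by
      rw [← comap_map_eq (A := A) (D := D) P]
      exact Ideal.comap_mono hQP
    have h2 : P ≤ Q.comap (algebraMap A D) := hP.2 ⟨inferInstance, bot_le⟩ h1
    exact Ideal.map_le_iff_le_comap.mpr h2
  · have : (P.map (algebraMap A D)).comap (algebraMap A D) = (P'.map (algebraMap A D)).comap (algebraMap A D) :=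
      congrArg (Ideal.comap (algebraMap A D)) hPP'
    rwa [comap_map_eq, comap_map_eq] at this
  · have hP := comap_mem_minimalPrimes (A := A) hQ
    refine ⟨Q.comap (algebraMap A D), hP, ?_⟩
    have h1 : (Q.comap (algebraMap A D)).map (algebraMap A D) ≤ Q := Ideal.map_comap_le
    exact le_antisymm h1 (hQ.2 ⟨h _ hP, bot_le⟩ h1)

/-- If `A → D` is faithfully flat and the extension of every minimal prime of `A` is a prime of `D`, then `A` and `D` have the same
number of minimal primes. -/
theorem encard_minimalPrimes_eq [Module.FaithfullyFlat A D]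
    (h : ∀ P ∈ minimalPrimes A, (P.map (algebraMap A D)).IsPrime) :
    (minimalPrimes A).encard = (minimalPrimes D).encard := by
  have hb := bijOn_map h
  rw [← hb.image_eq, hb.injOn.encard_image]

end Groth.Agent.CalgC.MinPrimesCount
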