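import Groth.Agent.CalgC.IndNormal
import Groth.Agent.CalgC.MinPrimesCount
import Groth.Agent.CalgC.HenselIntDom
import Groth.Agent.CalgC.TensorLocalPI
import Mathlib.RingTheory.Henselian
import Mathlib.FieldTheory.IsSepClosed
import Mathlib.FieldTheory.PurelyInseparable.Basic

/-!
# Extending primes from a henselian local ring to an ind-smooth local algebra
-/

set_option autoImplicit false
set_option linter.all false
universe u
open TensorProduct

namespace Groth.Agent.CalgC.Branches

open Groth.Agent.CalgC.IndEtale Groth.Agent.CalgC.IndNormal

/-- A prime of a henselian local ring extends to a prime of an ind-smooth local algebra under a residue field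
condition. -/
theorem isPrime_map {A D : Type u} [CommRing A] [HenselianLocalRing A] [CommRing D] [IsLocalRing D]
    [Algebra A D] [IsLocalHom (algebraMap A D)] (h : IsIndSmooth A D)
    (hres : IsSepClosed (IsLocalRing.ResidueField A) ∨
      IsPurelyInseparable (IsLocalRing.ResidueField A) (IsLocalRing.ResidueField D))
    (P : Ideal A) [P.IsPrime] : (P.map (algebraMap A D)).IsPrime := by
  let A' := A ⧸ P
  let K := FractionRing A'
  let N := integralClosure A' K
  haveI : Module.Flat A D := IsInd.flat isGood_smooth ((isIndSmooth_iff A D).1 h)
  haveI : Algebra.IsIntegral A N := Algebra.IsIntegral.trans A'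
  haveI : IsIntegrallyClosed N := integralClosure.isIntegrallyClosedOfFiniteExtension K
  haveI : IsLocalRing N := HenselIntDom.isLocalRing_of_isIntegral (A := A)
  haveI : IsLocalHom (algebraMap A N) := by
    have h1 : IsLocalHom (algebraMap A' N) := by
      infer_instance
    haveI h2 : IsLocalHom (algebraMap A A') := IsLocalHom.of_surjective _ Ideal.Quotient.mk_surjective
    rw [IsScalarTower.algebraMap_eq A A' N]
    exact RingHom.isLocalHom_comp _ _
  haveI : IsLocalRing (N ⊗[A] D) := by
    apply TensorLocalPI.isLocalRing
    rcases hres with hres | hres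
    · left
      haveI h3 : Algebra.IsIntegral N (IsLocalRing.ResidueField N) :=
        Algebra.isIntegral_of_surjective IsLocalRing.residue_surjective
      haveI h4 : Algebra.IsIntegral A (IsLocalRing.ResidueField N) :=
        Algebra.IsIntegral.trans N
      haveI h5 : Algebra.IsIntegral (IsLocalRing.ResidueField A) (IsLocalRing.ResidueField N) :=
        Algebra.IsIntegral.tower_top A
      infer_instance
    · exact Or.inr hres
  have hN : IsIndSmooth N (N ⊗[A] D) :=
    IsInd.baseChange isGood_smooth ((isIndSmooth_iff A D).1 h) N
  haveI := (isDomain_and_isIntegrallyClosed' hN).1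
  -- `A' ⊗ D → N ⊗ D` is injective
  have hinj : Function.Injective (Algebra.TensorProduct.map (IsScalarTower.toAlgHom A A' N) (AlgHom.id A D)) := by
    have : Function.Injective (IsScalarTower.toAlgHom A A' N) :=
      FaithfulSMul.algebraMap_injective A' N
    exact Module.Flat.rTensor_preserves_injective_linearMap (M := D)
      (IsScalarTower.toAlgHom A A' N).toLinearMap this
  haveI : IsDomain (A' ⊗[A] D) := hinj.isDomain _
  rw [← Ideal.Quotient.isDomain_iff_prime]
  let e : (D ⧸ P.map (algebraMap A D)) ≃+* A' ⊗[A] D := by
    exact ((Algebra.TensorProduct.quotIdealMapEquivTensorQuot D P).toRingEquiv.trans (Algebra.TensorProduct.comm A D A').toRingEquiv)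
  exact e.toMulEquiv.isDomain _

/-- The number of minimal primes is unchanged. -/
theorem encard_minimalPrimes_eq {A D : Type u} [CommRing A] [HenselianLocalRing A] [CommRing D] [IsLocalRing D]
    [Algebra A D] [IsLocalHom (algebraMap A D)] (h : IsIndSmooth A D)
    (hres : IsSepClosed (IsLocalRing.ResidueField A) ∨
      IsPurelyInseparable (IsLocalRing.ResidueField A) (IsLocalRing.ResidueField D)) :
    (minimalPrimes A).encard = (minimalPrimes D).encard := by
  haveI : Module.Flat A D := IsInd.flat isGood_smooth ((isIndSmooth_iff A D).1 h)
  haveI : Module.FaithfullyFlat A D := Module.FaithfullyFlat.of_flat_of_isLocalHom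
  apply MinPrimesCount.encard_minimalPrimes_eq
  intro P hP
  haveI := hP.1.1
  exact isPrime_map h hres P

end Groth.Agent.CalgC.Branches
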