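import Mathlib.RingTheory.Extension.Cotangent.Basic
import Mathlib.Algebra.MvPolynomial.PDeriv

/-!
# Elements of `H1Cotangent R S` come from finitely generated subalgebras
-/

set_option autoImplicit false

namespace Groth.Agent.CalgC.H1Limit

open MvPolynomial Algebra KaehlerDifferential TensorProduct

universe u v

theorem mem_ker_self_iff {R : Type v} {S : Type u} [CommRing R] [CommRing S] [Algebra R S]
    (f : MvPolynomial S R) :
    (f : (Generators.self R S).toExtension.Ring) ∈ (Generators.self R S).toExtension.ker ↔
      aeval (R := R) (_root_.id : S → S) f = 0 := by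
  exact Iff.rfl

theorem cotangentComplex_mk_eq_zero_iff {R : Type v} {S : Type u} [CommRing R] [CommRing S] [Algebra R S]
    (f : (Generators.self R S).toExtension.ker) :
    (Generators.self R S).toExtension.cotangentComplex (Extension.Cotangent.mk f) = 0 ↔
      ∀ i : S, aeval (R := R) (_root_.id : S → S) (pderiv i (f.1 : MvPolynomial S R)) = 0 := by
  rw [← (Generators.self R S).cotangentSpaceBasis.repr.map_eq_zero_iff, Finsupp.ext_iff]
  refine forall_congr' fun i => ?_
  rw [Extension.cotangentComplex_mk, Generators.cotangentSpaceBasis_repr_one_tmul]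
  rfl

/-- Every element of `H1Cotangent R S` comes from `H1Cotangent R S'` for every subring `S'` that
contains a suitable finite set of elements. -/
theorem exists_finset_mem_range_map {R : Type v} {S : Type u} [CommRing R] [CommRing S] [Algebra R S]
    (x : H1Cotangent R S) :
    ∃ s : Finset S, ∀ (S' : Type u) [CommRing S'] [Algebra R S'] [Algebra S' S]
      [IsScalarTower R S' S], Function.Injective (algebraMap S' S) →
      (∀ a ∈ s, a ∈ Set.range (algebraMap S' S)) →
      x ∈ Set.range (H1Cotangent.map R R S' S) := by
  classical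
  obtain ⟨y, hy⟩ := x
  obtain ⟨f, rfl⟩ := Extension.Cotangent.mk_surjective y
  rw [LinearMap.mem_ker, cotangentComplex_mk_eq_zero_iff] at hy
  refine ⟨(f.1 : MvPolynomial S R).vars, ?_⟩
  intro S' _ _ _ _ hinj hs
  obtain ⟨f', hf'⟩ := MvPolynomial.exists_rename_eq_of_vars_subset_range
    (f.1 : MvPolynomial S R) (algebraMap S' S) hinj
      (by intro a ha; exact hs a (by simpa using ha))
  have key : ∀ g : MvPolynomial S' R, algebraMap S' S (aeval (R := R) (_root_.id : S' → S') g) =
      aeval (R := R) (_root_.id : S → S) (rename (algebraMap S' S) g) := by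
    intro g
    rw [aeval_rename]
    rw [← IsScalarTower.coe_toAlgHom' R S' S, ← AlgHom.comp_apply, comp_aeval]
    rfl
  have hf'ker : (f' : (Generators.self R S').toExtension.Ring) ∈
      (Generators.self R S').toExtension.ker := by
    rw [mem_ker_self_iff]
    apply hinj
    rw [key, hf', map_zero]
    exact (mem_ker_self_iff _).mp f.2
  have hf'D : (Generators.self R S').toExtension.cotangentComplex
      (Extension.Cotangent.mk ⟨f', hf'ker⟩) = 0 := by
    rw [cotangentComplex_mk_eq_zero_iff]
    intro i
    apply hinj
    rw [key, map_zero, ← pderiv_rename hinj, hf']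
    exact hy _
  refine ⟨⟨Extension.Cotangent.mk ⟨f', hf'ker⟩, hf'D⟩, ?_⟩
  apply Extension.h1Cotangentι_ext
  rw [H1Cotangent.map, Extension.H1Cotangent.map_apply_coe, Extension.Cotangent.map_mk]
  congr 1
  apply Subtype.ext
  show (Generators.defaultHom (Generators.self R S') (Generators.self R S)).toAlgHom f' = f.1
  rw [← hf', Generators.Hom.toAlgHom, rename_eq_aeval]
  rfl

end Groth.Agent.CalgC.H1Limit
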