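import Groth.Agent.CalgC.IndEtale
import Groth.Agent.Desc.NormalSmooth

/-!
# Ind-smooth local algebras over normal rings are normal domains
-/

set_option autoImplicit false
set_option linter.all false
universe u
open TensorProduct

namespace Groth.Agent.CalgC.IndNormal

open Groth.Agent.CalgC.IndEtale Groth.Agent.Desc.NormalSmooth

theorem normalAt_congr {A : Type*} [CommRing A] {p p' : Ideal A} [p.IsPrime] [p'.IsPrime]
    (h : p = p') (hp : NormalAt A p) : NormalAt A p' := by
  subst h; exact hp

theorem homog {K : Type*} [Field K] (x y : K) (hy : y ≠ 0) (n : ℕ) (a : Fin n → K) :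
    x ^ n + ∑ i : Fin n, a i * (x ^ (i : ℕ) * y ^ (n - i)) =
      ((x / y) ^ n + ∑ i : Fin n, a i * (x / y) ^ (i : ℕ)) * y ^ n := by
  rw [add_mul, Finset.sum_mul, div_pow, div_mul_cancel₀ _ (pow_ne_zero _ hy)]
  congr 1
  refine Finset.sum_congr rfl fun i _ => ?_
  have h1 : y ^ n = y ^ (i : ℕ) * y ^ (n - i) := by
    rw [← pow_add]
    congr 1
    have := i.2
    omega
  rw [h1, div_pow, mul_assoc, ← mul_assoc (x ^ (i : ℕ) / y ^ (i : ℕ)),
    div_mul_cancel₀ _ (pow_ne_zero _ hy)]

/-- A local ind-smooth algebra whose maximal ideal lies over a prime at which the base is normal is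
an integrally closed domain. -/
theorem isDomain_and_isIntegrallyClosed {A D : Type u} [CommRing A] [CommRing D] [IsLocalRing D]
    [Algebra A D] (h : IsIndSmooth A D)
    (hA : NormalAt A ((IsLocalRing.maximalIdeal D).under A)) :
    IsDomain D ∧ IsIntegrallyClosed D := by
  have h' := (isIndSmooth_iff A D).1 h
  -- normality at stages
  have stage : ∀ {E : Type u} [CommRing E] [Algebra A E] [Algebra.Smooth A E] (χ : E →ₐ[A] D),
      ∃ (L : Type u) (_ : CommRing L) (_ : IsDomain L) (_ : IsIntegrallyClosed L) (_ : Algebra E L)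
        (f : L →+* D), f.comp (algebraMap E L) = (χ : E →+* D) := by
    intro E _ _ _ χ
    let q : Ideal E := (IsLocalRing.maximalIdeal D).comap (χ : E →+* D)
    have hq : q.under A = (IsLocalRing.maximalIdeal D).under A := by
      simp only [q, Ideal.under_def, Ideal.comap_comap]
      congr 1
      exact χ.comp_algebraMap
    haveI : Algebra.IsSmoothAt A q := inferInstance
    have hE : NormalAt E q := normalAt_of_isSmoothAt q (normalAt_congr hq.symm hA)
    have := hE.1
    have := hE.2
    have hu : ∀ y : q.primeCompl, IsUnit ((χ : E →+* D) y) := by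
      rintro ⟨y, hy⟩
      by_contra hcon
      exact hy ((IsLocalRing.mem_maximalIdeal _).2 hcon)
    refine ⟨Localization.AtPrime q, inferInstance, hE.1, hE.2, inferInstance,
      IsLocalization.lift hu, ?_⟩
    exact IsLocalization.lift_comp hu
  haveI hdom : IsDomain D := by
    haveI : NoZeroDivisors D := by
      refine ⟨fun {x y} hxy => ?_⟩
      obtain ⟨E, _, _, hE, χ, e, h1, h2⟩ := IsIndP.exists_stage' h' ![x, y]
        {MvPolynomial.X 0 * MvPolynomial.X 1} (Set.finite_singleton _) (by
          simp only [Set.mem_singleton_iff, forall_eq, map_mul, MvPolynomial.aeval_X]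
          simpa using hxy)
      have hE' : Algebra.Smooth A E := hE
      obtain ⟨L, _, _, _, _, f, hf⟩ := stage χ
      have h3 : e 0 * e 1 = 0 := by
        have := h2 _ rfl
        simpa using this
      have h4 : algebraMap E L (e 0) * algebraMap E L (e 1) = 0 := by
        rw [← map_mul, h3, map_zero]
      have h5 : ∀ a, f (algebraMap E L a) = χ a := fun a => DFunLike.congr_fun hf a
      rcases mul_eq_zero.1 h4 with h6 | h6
      · left
        have := h5 (e 0)
        rw [h6, map_zero, h1] at this
        simpa using this.symm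
      · right
        have := h5 (e 1)
        rw [h6, map_zero, h1] at this
        simpa using this.symm
    exact NoZeroDivisors.to_isDomain D
  refine ⟨hdom, ?_⟩
  rw [isIntegrallyClosed_iff (FractionRing D)]
  intro z hz
  obtain ⟨x, y, hy, rfl⟩ := IsFractionRing.div_surjective (A := D) z
  have hy0 : y ≠ 0 := nonZeroDivisors.ne_zero hy
  obtain ⟨p, hp, hpz⟩ := hz
  have hy1 : algebraMap D (FractionRing D) y ≠ 0 := by
    simpa using hy0
  set n := p.natDegree with hn
  -- the homogenized relation
  have hrel : x ^ n + ∑ i : Fin n, p.coeff i * (x ^ (i : ℕ) * y ^ (n - i)) = 0 := by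
    apply IsFractionRing.injective D (FractionRing D)
    rw [hp.as_sum] at hpz
    simp only [Polynomial.eval₂_add, Polynomial.eval₂_pow, Polynomial.eval₂_X,
      Polynomial.eval₂_finsetSum, Polynomial.eval₂_mul, Polynomial.eval₂_C] at hpz
    rw [← hn] at hpz
    rw [Finset.sum_range] at hpz
    simp only [map_add, map_pow, map_sum, map_mul, map_zero]
    rw [homog _ _ hy1 n (fun i : Fin n => algebraMap D (FractionRing D) (p.coeff i)), hpz, zero_mul]
  obtain ⟨E, _, _, hE, χ, e, h1, h2⟩ := IsIndP.exists_stage' h'
    (Sum.elim (fun i : Fin n => p.coeff i) ![x, y])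
    {MvPolynomial.X (Sum.inr 0) ^ n + ∑ i : Fin n, MvPolynomial.X (Sum.inl i) *
      (MvPolynomial.X (Sum.inr 0) ^ (i : ℕ) * MvPolynomial.X (Sum.inr 1) ^ (n - i))}
    (Set.finite_singleton _) (by
      simp only [Set.mem_singleton_iff, forall_eq, map_add, map_mul, map_pow, map_sum,
        MvPolynomial.aeval_X, Sum.elim_inl, Sum.elim_inr]
      simpa using hrel)
  have hE' : Algebra.Smooth A E := hE
  obtain ⟨L, _, _, _, _, f, hf⟩ := stage χ
  have h5 : ∀ a, f (algebraMap E L a) = χ a := fun a => DFunLike.congr_fun hf a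
  have h3 : e (Sum.inr 0) ^ n + ∑ i : Fin n, e (Sum.inl i) *
      (e (Sum.inr 0) ^ (i : ℕ) * e (Sum.inr 1) ^ (n - i)) = 0 := by
    have := h2 _ rfl
    simpa only [map_add, map_mul, map_pow, map_sum, MvPolynomial.aeval_X] using this
  set X := algebraMap E L (e (Sum.inr 0)) with hX
  set Y := algebraMap E L (e (Sum.inr 1)) with hY
  have h6 : X ^ n + ∑ i : Fin n, algebraMap E L (e (Sum.inl i)) *
      (X ^ (i : ℕ) * Y ^ (n - i)) = 0 := by
    have := congrArg (algebraMap E L) h3
    simpa only [map_add, map_mul, map_pow, map_sum, map_zero] using this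
  have hfX : f X = x := by rw [hX, h5, h1]; simp
  have hfY : f Y = y := by rw [hY, h5, h1]; simp
  have hY0 : Y ≠ 0 := by
    intro h0
    apply hy0
    rw [← hfY, h0, map_zero]
  have hY1 : algebraMap L (FractionRing L) Y ≠ 0 := by simpa using hY0
  have hint : IsIntegral L (algebraMap L (FractionRing L) X / algebraMap L (FractionRing L) Y) := by
    refine ⟨Polynomial.X ^ n + ∑ i : Fin n, Polynomial.C (algebraMap E L (e (Sum.inl i))) *
      Polynomial.X ^ (i : ℕ), ?_, ?_⟩
    · apply Polynomial.monic_X_pow_add
      refine lt_of_le_of_lt (Polynomial.degree_sum_le _ _) ?_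
      refine (Finset.sup_lt_iff (WithBot.bot_lt_coe n)).2 ?_
      intro i _
      exact lt_of_le_of_lt (Polynomial.degree_C_mul_X_pow_le _ _) (WithBot.coe_lt_coe.2 i.2)
    · have h7 := congrArg (algebraMap L (FractionRing L)) h6
      simp only [map_add, map_mul, map_pow, map_sum, map_zero] at h7
      simp only [Polynomial.eval₂_add, Polynomial.eval₂_pow, Polynomial.eval₂_X,
        Polynomial.eval₂_finsetSum, Polynomial.eval₂_mul, Polynomial.eval₂_C]
      have h8 : algebraMap L (FractionRing L) Y ^ n ≠ 0 := pow_ne_zero _ hY1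
      rw [homog _ _ hY1 n (fun i : Fin n => algebraMap L (FractionRing L)
        (algebraMap E L (e (Sum.inl i))))] at h7
      exact (mul_eq_zero.1 h7).resolve_right h8
  obtain ⟨w, hw⟩ := (isIntegrallyClosed_iff (FractionRing L)).1 inferInstance hint
  have hw' : w * Y = X := by
    apply IsFractionRing.injective L (FractionRing L)
    rw [map_mul, hw]
    field_simp
  refine ⟨f w, ?_⟩
  have h9 : f w * y = x := by rw [← hfX, ← hw', map_mul, hfY]
  rw [eq_div_iff hy1, ← map_mul, h9]

/-- Version over an integrally closed domain. -/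
theorem isDomain_and_isIntegrallyClosed' {A D : Type u} [CommRing A] [IsDomain A]
    [IsIntegrallyClosed A] [CommRing D] [IsLocalRing D]
    [Algebra A D] (h : IsIndSmooth A D) : IsDomain D ∧ IsIntegrallyClosed D := by
  apply isDomain_and_isIntegrallyClosed h
  refine ⟨IsLocalization.isDomain_localization (Ideal.primeCompl_le_nonZeroDivisors _), ?_⟩
  exact isIntegrallyClosed_of_isLocalization (R := A) _
    ((IsLocalRing.maximalIdeal D).under A).primeCompl (Ideal.primeCompl_le_nonZeroDivisors _)

end Groth.Agent.CalgC.IndNormal
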