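import Groth.Agent.CalgC.ProTor
import Groth.Agent.CalgB.QuasiRegular
import Groth.Agent.Flat2H.SmoothSection

/-!
# `Tor_{t+1}^R(M, R/I^n) → Tor_{t+1}^R(M, R/I^{n-c})` vanishes uniformly for `I` generated by `t`
elements
-/

set_option autoImplicit false
universe u

open CategoryTheory CategoryTheory.Limits RingTheory.Sequence

namespace Groth.Agent.CalgC.KoszulVan

open Groth.Agent.CalgC.ProTor

section Regular

variable {B : Type u} [CommRing B]

/-- Dividing by a weakly regular sequence of length `l` raises the projective dimension by at most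
`l`. -/
theorem hasProjectiveDimensionLE_quotient_of_isWeaklyRegular (l : List B) :
    ∀ (M : Type u) [AddCommGroup M] [Module B M] (k : ℕ),
    HasProjectiveDimensionLE (ModuleCat.of B M) k → IsWeaklyRegular M l →
    HasProjectiveDimensionLE (ModuleCat.of B (M ⧸ (Ideal.ofList l • ⊤ : Submodule B M)))
      (k + l.length) := by
  induction l with
  | nil =>
    intro M _ _ k h _
    have e : M ≃ₗ[B] (M ⧸ (Ideal.ofList ([] : List B) • ⊤ : Submodule B M)) :=
      (Submodule.quotEquivOfEqBot _ (by rw [Ideal.ofList_nil, Submodule.bot_smul])).symm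
    exact ModuleCat.hasProjectiveDimensionLE_of_linearEquiv
      (M := ModuleCat.of B M) (N := ModuleCat.of B _) e k
  | cons r l ih =>
    intro M _ _ k h hr
    rw [isWeaklyRegular_cons_iff] at hr
    have h1 : HasProjectiveDimensionLE (ModuleCat.of B (QuotSMulTop r M)) (k + 1) := by
      have hS := (show IsSMulRegular (ModuleCat.of B M) r from hr.1).smulShortComplex_shortExact
      exact hS.hasProjectiveDimensionLT_X₃ (k + 1) h
        (hasProjectiveDimensionLT_of_ge (ModuleCat.of B M) (k + 1) (k + 2) (Nat.le_add_right _ 1))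
    have h2 := ih (QuotSMulTop r M) (k + 1) h1 hr.2
    have e := Submodule.quotOfListConsSMulTopEquivQuotSMulTopInner M r l
    have h3 := ModuleCat.hasProjectiveDimensionLE_of_linearEquiv
      (M := ModuleCat.of B _) (N := ModuleCat.of B _) e.symm (k + 1 + l.length)
    have h4 : k + (r :: l).length = k + 1 + l.length := by
      rw [List.length_cons]; ring
    rw [h4]
    exact h3

end Regular

section Poly

variable (R : Type u) [CommRing R] {t : ℕ} (f : Fin t → R)

/-- The `X_i - f_i` form a weakly regular sequence. -/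
theorem isWeaklyRegular_X_sub_C :
    IsWeaklyRegular (MvPolynomial (Fin t) R)
      (List.ofFn fun i : Fin t => (MvPolynomial.X i - MvPolynomial.C (f i) : MvPolynomial (Fin t) R)) := by
  let φ : MvPolynomial (Fin t) R →ₐ[R] MvPolynomial (Fin t) R :=
    MvPolynomial.aeval fun i => (MvPolynomial.X i - MvPolynomial.C (f i) : MvPolynomial (Fin t) R)
  let ψ : MvPolynomial (Fin t) R →ₐ[R] MvPolynomial (Fin t) R :=
    MvPolynomial.aeval fun i => (MvPolynomial.X i + MvPolynomial.C (f i) : MvPolynomial (Fin t) R)
  let e : MvPolynomial (Fin t) R ≃ₐ[R] MvPolynomial (Fin t) R :=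
    AlgEquiv.ofAlgHom φ ψ (by ext i; simp [φ, ψ]) (by ext i; simp [φ, ψ])
  refine (AddEquiv.isWeaklyRegular_congr (e := e.toRingEquiv.toAddEquiv)
    (as := List.ofFn (MvPolynomial.X : Fin t → MvPolynomial (Fin t) R)) ?_).1
    (Flat2H.SmoothSection.isWeaklyRegular_X R t)
  rw [List.forall₂_iff_get]
  refine ⟨by simp, ?_⟩
  intro i h1 h2 x
  have : e (MvPolynomial.X ⟨i, by simpa using h1⟩ * x) =
      (MvPolynomial.X ⟨i, by simpa using h1⟩ - MvPolynomial.C (f ⟨i, by simpa using h1⟩)) * e x := by
    rw [map_mul]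
    congr 1
    change φ _ = _
    simp [φ]
  simpa using this

theorem projective_quotient_pow (n : ℕ) :
    Module.Projective R (MvPolynomial (Fin t) R ⧸ (MvPolynomial.idealOfVars (Fin t) R) ^ n) := by
  classical
  let T : MvPolynomial (Fin t) R →ₗ[R] MvPolynomial (Fin t) R :=
    (MvPolynomial.basisMonomials (Fin t) R).constr R
      (fun m => if m.degree < n then MvPolynomial.monomial m (1 : R) else 0)
  have hT : ∀ m : Fin t →₀ ℕ, T (MvPolynomial.monomial m 1) =
      if m.degree < n then MvPolynomial.monomial m (1 : R) else 0 := by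
    intro m
    have := (MvPolynomial.basisMonomials (Fin t) R).constr_basis R
      (fun m => if m.degree < n then MvPolynomial.monomial m (1 : R) else 0) m
    rwa [MvPolynomial.coe_basisMonomials] at this
  have hTm : ∀ (m : Fin t →₀ ℕ) (r : R), T (MvPolynomial.monomial m r) =
      if m.degree < n then MvPolynomial.monomial m r else 0 := by
    intro m r
    have : MvPolynomial.monomial m r = r • (MvPolynomial.monomial m (1 : R)) := by
      rw [MvPolynomial.smul_monomial, smul_eq_mul, mul_one]
    rw [this, map_smul, hT]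
    split_ifs <;> simp
  let J := MvPolynomial.idealOfVars (Fin t) R
  have hker : ∀ p ∈ J ^ n, T p = 0 := by
    intro p hp
    rw [MvPolynomial.mem_pow_idealOfVars_iff] at hp
    rw [p.as_sum, map_sum]
    refine Finset.sum_eq_zero fun m hm => ?_
    rw [hTm, if_neg (not_lt.2 (hp m hm))]
  have hid : ∀ p, T p - p ∈ J ^ n := by
    intro p
    induction p using MvPolynomial.induction_on' with
    | monomial m a =>
      rw [hTm]
      by_cases hd : m.degree < n
      · rw [if_pos hd, sub_self]
        exact Ideal.zero_mem _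
      · rw [if_neg hd, zero_sub]
        refine (J ^ n).neg_mem ?_
        by_cases ha : a = 0
        · rw [ha, MvPolynomial.monomial_zero]
          exact Ideal.zero_mem _
        · rw [MvPolynomial.monomial_mem_pow_idealOfVars_iff _ _ ha]
          exact not_lt.1 hd
    | add p q hp hq =>
      have : T (p + q) - (p + q) = (T p - p) + (T q - q) := by rw [map_add]; ring
      rw [this]
      exact Ideal.add_mem _ hp hq
  let s : (MvPolynomial (Fin t) R ⧸ J ^ n) →ₗ[R] MvPolynomial (Fin t) R :=
    ((J ^ n).restrictScalars R).liftQ T (fun p hp => LinearMap.mem_ker.2 (hker p hp))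
  refine Module.Projective.of_split s (Ideal.Quotient.mkₐ R (J ^ n)).toLinearMap ?_
  refine LinearMap.ext fun x => ?_
  obtain ⟨p, rfl⟩ := Ideal.Quotient.mk_surjective x
  change Ideal.Quotient.mk (J ^ n) (T p) = Ideal.Quotient.mk (J ^ n) p
  rw [← sub_eq_zero, ← map_sub, Ideal.Quotient.eq_zero_iff_mem]
  exact hid p

end Poly

section Main

variable (R : Type u) [CommRing R] {t : ℕ} (f : Fin t → R)

theorem restrictScalars_pow_smul_top [Algebra (MvPolynomial (Fin t) R) R]
    [IsScalarTower R (MvPolynomial (Fin t) R) R]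
    (hf : ∀ i, algebraMap (MvPolynomial (Fin t) R) R (MvPolynomial.X i) = f i) (n : ℕ) :
    ((MvPolynomial.idealOfVars (Fin t) R) ^ n • ⊤ :
      Submodule (MvPolynomial (Fin t) R) R).restrictScalars R = (Ideal.span (Set.range f)) ^ n := by
  have h1 : (MvPolynomial.idealOfVars (Fin t) R).map (algebraMap (MvPolynomial (Fin t) R) R) =
      Ideal.span (Set.range f) := by
    rw [MvPolynomial.idealOfVars, Ideal.map_span, ← Set.range_comp]
    congr 2
    funext i
    exact hf i
  ext x
  rw [Submodule.restrictScalars_mem, Ideal.smul_top_eq_map, Submodule.restrictScalars_mem,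
    Ideal.map_pow, h1]

theorem exists_zT [IsNoetherianRing R] :
    ∃ c : ℕ, ∀ n : ℕ, c ≤ n → ZT (t + 1)
      (Submodule.mapQ ((Ideal.span (Set.range f)) ^ n) ((Ideal.span (Set.range f)) ^ (n - c))
        (LinearMap.id : R →ₗ[R] R) (Ideal.pow_le_pow_right (Nat.sub_le n c))) := by
  let alg : Algebra (MvPolynomial (Fin t) R) R := (MvPolynomial.eval f).toAlgebra
  have tower : IsScalarTower R (MvPolynomial (Fin t) R) R := IsScalarTower.of_algebraMap_eq' (by
    ext r
    exact (MvPolynomial.eval_C (f := f) r).symm)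
  have hsurj : Function.Surjective (algebraMap (MvPolynomial (Fin t) R) R) :=
    fun r => ⟨MvPolynomial.C r, MvPolynomial.eval_C r⟩
  have : Module.Finite (MvPolynomial (Fin t) R) R :=
    Module.Finite.of_surjective (Algebra.linearMap (MvPolynomial (Fin t) R) R) hsurj
  let B := MvPolynomial (Fin t) R
  let J : Ideal B := MvPolynomial.idealOfVars (Fin t) R
  let I := Ideal.span (Set.range f)
  let l : List B := List.ofFn fun i : Fin t => (MvPolynomial.X i - MvPolynomial.C (f i) : B)
  have hl : l.length = t := List.length_ofFn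
  have hker : RingHom.ker (algebraMap B R) = Ideal.ofList l := by
    refine (CalgB.QuasiRegular.ker_eval_eq_span f).trans ?_
    unfold Ideal.ofList
    congr 1
    ext x
    simp only [l, Set.mem_range, List.mem_ofFn']
    exact Iff.rfl
  have e : (B ⧸ (Ideal.ofList l • ⊤ : Submodule B B)) ≃ₗ[B] R := by
    refine (Submodule.quotEquivOfEq _ _ ?_) ≪≫ₗ
      (LinearMap.quotKerEquivOfSurjective (Algebra.linearMap B R) hsurj)
    rw [Ideal.smul_eq_mul, Ideal.mul_top, ← hker]
    rfl
  have h0 : HasProjectiveDimensionLE (ModuleCat.of B B) 0 := by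
    have : Projective (ModuleCat.of B B) := (IsProjective.iff_projective B).1 inferInstance
    exact (projective_iff_hasProjectiveDimensionLE_zero (X := ModuleCat.of B B)).1 this
  have h1 := hasProjectiveDimensionLE_quotient_of_isWeaklyRegular l B 0 h0
    (isWeaklyRegular_X_sub_C R f)
  rw [hl, zero_add] at h1
  have h2 : HasProjectiveDimensionLE (ModuleCat.of B R) t :=
    ModuleCat.hasProjectiveDimensionLE_of_linearEquiv (M := ModuleCat.of B _)
      (N := ModuleCat.of B R) e t
  obtain ⟨c, hc⟩ := van_of_hasProjectiveDimensionLE J R (projective_quotient_pow R) t R h2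
  refine ⟨c, fun n hn => ?_⟩
  have hJ : ∀ m : ℕ, (J ^ m • ⊤ : Submodule B R).restrictScalars R = I ^ m :=
    restrictScalars_pow_smul_top R f (fun i => MvPolynomial.eval_X i)
  let v : ∀ m : ℕ, (R ⧸ (J ^ m • ⊤ : Submodule B R)) ≃ₗ[R] (R ⧸ I ^ m) := fun m =>
    (Submodule.Quotient.restrictScalarsEquiv R (J ^ m • ⊤ : Submodule B R)).symm ≪≫ₗ
      Submodule.quotEquivOfEq _ _ (hJ m)
  have h3 := ((hc n hn).comp_right (v n).symm.toLinearMap).comp_left
    (v (n - c)).toLinearMap
  have h4 : Submodule.mapQ (I ^ n) (I ^ (n - c)) (LinearMap.id : R →ₗ[R] R)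
      (Ideal.pow_le_pow_right (Nat.sub_le n c)) =
      (v (n - c)).toLinearMap ∘ₗ tow J R R n c ∘ₗ (v n).symm.toLinearMap := by
    refine LinearMap.ext fun x => ?_
    obtain ⟨x, rfl⟩ := Submodule.Quotient.mk_surjective _ x
    rfl
  rw [h4]
  exact h3

/-- The uniform vanishing for an ideal generated by a finset of cardinality at most `t`. -/
theorem exists_zT_finset [IsNoetherianRing R] (I : Ideal R) (t : ℕ) (s : Finset R)
    (hs : I = Ideal.span (s : Set R)) (ht : s.card ≤ t) :
    ∃ c : ℕ, ∀ n : ℕ, c ≤ n → ZT (t + 1)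
      (Submodule.mapQ (I ^ n) (I ^ (n - c)) (LinearMap.id : R →ₗ[R] R)
        (Ideal.pow_le_pow_right (Nat.sub_le n c))) := by
  classical
  let f : Fin t → R := fun i => if h : (i : ℕ) < s.card then s.equivFin.symm ⟨i, h⟩ else 0
  have hf : I = Ideal.span (Set.range f) := by
    rw [hs]
    apply le_antisymm
    · rw [Ideal.span_le]
      intro x hx
      refine Ideal.subset_span ⟨⟨s.equivFin ⟨x, hx⟩, lt_of_lt_of_le (Fin.is_lt _) ht⟩, ?_⟩
      simp [f]
    · rw [Ideal.span_le]
      rintro _ ⟨i, rfl⟩
      by_cases h : (i : ℕ) < s.card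
      · refine Ideal.subset_span ?_
        simp [f, h]
      · simp [f, h]
  subst hf
  exact exists_zT R f

end Main

end Groth.Agent.CalgC.KoszulVan
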