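import Mathlib.Algebra.Homology.DerivedCategory.TStructure
import Mathlib.Algebra.Homology.DerivedCategory.ExactFunctor
import Mathlib.Algebra.Homology.DerivedCategory.HomologySequence
import Mathlib.CategoryTheory.Triangulated.TStructure.TruncLTGE
import Mathlib.CategoryTheory.Triangulated.Adjunction

/-!
# Left adjoints of derived exact functors are right t-exact, and pseudo-coherence style conditions

* `isLE_of_adj`: if `F : D(C₁) ⥤ D(C₂)` is left adjoint to a functor preserving `IsGE`, then `F` preserves `IsLE`.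
* `isGE_mapDerivedCategory`: exact functors preserve `IsGE`.
* `homology_conditions_iff`: for a distinguished triangle `E → K → C → E[1]`, the map `E → K` induces isomorphisms on
  `H^i` for `i > m` and an epimorphism on `H^m` iff `C` is `≤ m - 1`.
* `homology_conditions_map_of_adj`: a functor left adjoint to a derived exact functor preserves these conditions.
-/

set_option autoImplicit false

open CategoryTheory CategoryTheory.Limits CategoryTheory.Pretriangulated

universe w₁ w₂ v₁ v₂ u₁ u₂

namespace Groth.Agent.CalgC.PCBase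

open DerivedCategory

section

variable {C : Type u₁} [Category.{v₁} C] [Abelian C] [HasDerivedCategory.{w₁} C]

/-- `E → K` induces isomorphisms on `H^i` for `i > m` and an epimorphism on `H^m` iff the cone is `≤ m - 1`. -/
theorem homology_conditions_iff (T : Triangle (DerivedCategory C)) (hT : T ∈ distTriang (DerivedCategory C)) (m : ℤ) :
    ((∀ i : ℤ, m < i → IsIso ((homologyFunctor C i).map T.mor₁)) ∧ Epi ((homologyFunctor C m).map T.mor₁)) ↔
      T.obj₃.IsLE (m - 1) := by
  rw [isLE_iff]
  constructor
  · rintro ⟨h1, h2⟩ i hi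
    have hepi : Epi ((homologyFunctor C i).map T.mor₁) := by
      rcases (by omega : i = m ∨ m < i) with rfl | h
      · exact h2
      · have := h1 i h
        infer_instance
    have hmono : Mono ((homologyFunctor C (i + 1)).map T.mor₁) := by
      have := h1 (i + 1) (by omega)
      infer_instance
    rw [HomologySequence.epi_homologyMap_mor₁_iff T hT i] at hepi
    rw [HomologySequence.mono_homologyMap_mor₁_iff T hT i (i + 1) rfl] at hmono
    exact (HomologySequence.exact₃ T hT i (i + 1) rfl).isZero_X₂ hepi hmono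
  · intro h
    have hepi : ∀ i, m ≤ i → Epi ((homologyFunctor C i).map T.mor₁) := fun i hi => by
      rw [HomologySequence.epi_homologyMap_mor₁_iff T hT i]
      exact (h i (by omega)).eq_of_tgt _ _
    have hmono : ∀ i, m < i → Mono ((homologyFunctor C i).map T.mor₁) := fun i hi => by
      rw [HomologySequence.mono_homologyMap_mor₁_iff T hT (i - 1) i (by omega)]
      exact (h (i - 1) (by omega)).eq_of_src _ _
    refine ⟨fun i hi => ?_, hepi m le_rfl⟩
    have := hepi i hi.le
    have := hmono i hi
    exact isIso_of_mono_of_epi _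

/-- The conditions "iso on `H^i` for `i > m` and epi on `H^m`" are invariant under isomorphism of arrows. -/
theorem homology_conditions_of_iso {E K E' K' : DerivedCategory C} (α : E ⟶ K) (α' : E' ⟶ K') (e : E ≅ E')
    (k : K ≅ K') (hcomm : α ≫ k.hom = e.hom ≫ α') (m : ℤ)
    (h : (∀ i : ℤ, m < i → IsIso ((homologyFunctor C i).map α)) ∧ Epi ((homologyFunctor C m).map α)) :
    (∀ i : ℤ, m < i → IsIso ((homologyFunctor C i).map α')) ∧ Epi ((homologyFunctor C m).map α') := by
  have hα' : α' = e.inv ≫ α ≫ k.hom := by rw [hcomm, e.inv_hom_id_assoc]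
  rw [hα']
  refine ⟨fun i hi => ?_, ?_⟩
  · have := h.1 i hi
    rw [Functor.map_comp, Functor.map_comp]
    infer_instance
  · have := h.2
    rw [Functor.map_comp, Functor.map_comp]
    infer_instance

end

section

variable {C₁ : Type u₁} [Category.{v₁} C₁] [Abelian C₁] [HasDerivedCategory.{w₁} C₁]
variable {C₂ : Type u₂} [Category.{v₂} C₂] [Abelian C₂] [HasDerivedCategory.{w₂} C₂]

/-- Exact functors preserve `IsGE`. -/
theorem isGE_mapDerivedCategory (G : C₂ ⥤ C₁) [G.Additive] [PreservesFiniteLimits G] [PreservesFiniteColimits G]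
    (X : DerivedCategory C₂) (n : ℤ) [X.IsGE n] : (G.mapDerivedCategory.obj X).IsGE n := by
  obtain ⟨K, hK, ⟨e⟩⟩ := exists_iso_Q_obj_of_isGE X n
  let K' : CochainComplex C₁ ℤ := (G.mapHomologicalComplex (ComplexShape.up ℤ)).obj K
  have : K'.IsStrictlyGE n := by
    rw [CochainComplex.isStrictlyGE_iff]
    intro i hi
    exact G.map_isZero (K.isZero_of_isStrictlyGE n i hi)
  have : (Q.obj K').IsGE n := inferInstance
  exact TStructure.t.isGE_of_iso (X := Q.obj K')
    ((G.mapDerivedCategoryFactors.app K).symm ≪≫ G.mapDerivedCategory.mapIso e.symm) n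

/-- Exact functors preserve `IsLE`. -/
theorem isLE_mapDerivedCategory (G : C₂ ⥤ C₁) [G.Additive] [PreservesFiniteLimits G] [PreservesFiniteColimits G]
    (X : DerivedCategory C₂) (n : ℤ) [X.IsLE n] : (G.mapDerivedCategory.obj X).IsLE n := by
  obtain ⟨K, hK, ⟨e⟩⟩ := exists_iso_Q_obj_of_isLE X n
  let K' : CochainComplex C₁ ℤ := (G.mapHomologicalComplex (ComplexShape.up ℤ)).obj K
  have : K'.IsStrictlyLE n := by
    rw [CochainComplex.isStrictlyLE_iff]
    intro i hi
    exact G.map_isZero (K.isZero_of_isStrictlyLE n i hi)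
  have : (Q.obj K').IsLE n := inferInstance
  exact TStructure.t.isLE_of_iso (X := Q.obj K')
    ((G.mapDerivedCategoryFactors.app K).symm ≪≫ G.mapDerivedCategory.mapIso e.symm) n

/-- A left adjoint of a functor preserving `IsGE` preserves `IsLE`. -/
theorem isLE_of_adj {F : DerivedCategory C₁ ⥤ DerivedCategory C₂} {G : DerivedCategory C₂ ⥤ DerivedCategory C₁}
    (adj : F ⊣ G) (hG : ∀ (X : DerivedCategory C₂) (n : ℤ), X.IsGE n → (G.obj X).IsGE n)
    (K : DerivedCategory C₁) (n : ℤ) [K.IsLE n] : (F.obj K).IsLE n := by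
  have h := (TStructure.t (C := C₂)).isLE_iff_orthogonal n (n + 1) rfl (F.obj K)
  refine h.2 fun Y f hY => ?_
  apply (adj.homEquiv K Y).injective
  have h1 : (G.obj Y).IsGE (n + 1) := hG Y (n + 1) hY
  have h2 : ∀ g : K ⟶ G.obj Y, g = 0 := fun g => TStructure.t.zero g n (n + 1) (by omega)
  rw [h2 (adj.homEquiv K Y f), h2 (adj.homEquiv K Y 0)]

/-- A functor left adjoint to a triangulated functor preserving `IsGE` preserves the conditions
"iso on `H^i` for `i > m` and epi on `H^m`". -/
theorem homology_conditions_map_of_adj {F : DerivedCategory C₁ ⥤ DerivedCategory C₂}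
    {G : DerivedCategory C₂ ⥤ DerivedCategory C₁} (adj : F ⊣ G) [G.CommShift ℤ] [G.IsTriangulated]
    (hG : ∀ (X : DerivedCategory C₂) (n : ℤ), X.IsGE n → (G.obj X).IsGE n) {E K : DerivedCategory C₁} (α : E ⟶ K)
    (m : ℤ) (h : (∀ i : ℤ, m < i → IsIso ((homologyFunctor C₁ i).map α)) ∧ Epi ((homologyFunctor C₁ m).map α)) :
    (∀ i : ℤ, m < i → IsIso ((homologyFunctor C₂ i).map (F.map α))) ∧
      Epi ((homologyFunctor C₂ m).map (F.map α)) := by
  let _ : F.CommShift ℤ := adj.leftAdjointCommShift ℤ
  have : adj.CommShift ℤ := adj.commShift_of_rightAdjoint ℤ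
  have : F.IsTriangulated := adj.isTriangulated_leftAdjoint
  obtain ⟨Z, β, γ, hT⟩ := distinguished_cocone_triangle α
  have h1 : Z.IsLE (m - 1) := (homology_conditions_iff _ hT m).1 h
  have h2 : (F.obj Z).IsLE (m - 1) := isLE_of_adj adj hG Z (m - 1)
  exact (homology_conditions_iff _ (F.map_distinguished _ hT) m).2 h2

end

end Groth.Agent.CalgC.PCBase
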