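import Groth.Agent.CalgC.TorShift2
import Mathlib.RingTheory.Filtration
import Mathlib.RingTheory.MvPolynomial.Ideal
import Mathlib.RingTheory.Regular.RegularSequence
import Mathlib.RingTheory.Regular.Category
import Mathlib.RingTheory.Polynomial.Basic
import Mathlib.CategoryTheory.Abelian.Projective.Dimension
import Mathlib.Algebra.Category.ModuleCat.ProjectiveDimension
import Mathlib.Algebra.Module.FinitePresentation
import Mathlib.LinearAlgebra.TensorProduct.Pi

/-!
# Uniform vanishing of `Tor_i(M, N/J^n N) → Tor_i(M, N/J^{n-c} N)`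

`R → B` with `B` Noetherian and `B/J^n` projective over `R`; for a finite `B`-module `N` of
projective dimension at most `k` the maps `Tor_{k+1}^R(M, N/J^n N) → Tor_{k+1}^R(M, N/J^{n-c} N)`
vanish for all `M` and a uniform `c`.
-/

set_option autoImplicit false
universe u

open CategoryTheory CategoryTheory.Limits

namespace Groth.Agent.CalgC.ProTor

section ZT

variable {R : Type u} [CommRing R]

/-- `g` induces zero on `Tor_i(M, -)` for all `M`. -/
def ZT (i : ℕ) {N N' : Type u} [AddCommGroup N] [Module R N] [AddCommGroup N'] [Module R N']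
    (g : N →ₗ[R] N') : Prop :=
  ∀ M : ModuleCat.{u} R, ((Tor (ModuleCat.{u} R) i).obj M).map (ModuleCat.ofHom g) = 0

variable {N N' N'' : Type u} [AddCommGroup N] [Module R N] [AddCommGroup N'] [Module R N']
  [AddCommGroup N''] [Module R N'']

lemma ZT.comp_left {i : ℕ} {g : N →ₗ[R] N'} (h : ZT i g) (f : N' →ₗ[R] N'') : ZT i (f ∘ₗ g) := by
  intro M
  rw [ModuleCat.ofHom_comp, CategoryTheory.Functor.map_comp, h M, zero_comp]

lemma ZT.comp_right {i : ℕ} {g : N' →ₗ[R] N''} (h : ZT i g) (f : N →ₗ[R] N') : ZT i (g ∘ₗ f) := by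
  intro M
  rw [ModuleCat.ofHom_comp, CategoryTheory.Functor.map_comp, h M, comp_zero]

lemma zT_of_projective_left (i : ℕ) (g : N →ₗ[R] N') [Module.Projective R N] : ZT (i + 1) g := by
  intro M
  have : Projective (ModuleCat.of R N) := (IsProjective.iff_projective N).1 inferInstance
  exact (isZero_Tor_succ_of_projective (ModuleCat.{u} R) M (ModuleCat.of R N) i).eq_zero_of_src _

/-- Dimension shifting. -/
lemma zT_shift {X₁ X₂ X₃ Y₁ Y₂ Y₃ : Type u} [AddCommGroup X₁] [Module R X₁] [AddCommGroup X₂]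
    [Module R X₂] [AddCommGroup X₃] [Module R X₃] [AddCommGroup Y₁] [Module R Y₁]
    [AddCommGroup Y₂] [Module R Y₂] [AddCommGroup Y₃] [Module R Y₃]
    [Module.Projective R X₂] [Module.Projective R Y₂]
    (f : X₁ →ₗ[R] X₂) (g : X₂ →ₗ[R] X₃) (hf : Function.Injective f) (h : Function.Exact f g)
    (hg : Function.Surjective g)
    (f' : Y₁ →ₗ[R] Y₂) (g' : Y₂ →ₗ[R] Y₃) (hf' : Function.Injective f') (h' : Function.Exact f' g')
    (hg' : Function.Surjective g') (a : X₁ →ₗ[R] Y₁) (b : X₂ →ₗ[R] Y₂) (c : X₃ →ₗ[R] Y₃)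
    (h1 : f' ∘ₗ a = b ∘ₗ f) (h2 : g' ∘ₗ b = c ∘ₗ g) (i : ℕ) (ha : ZT (i + 1) a) :
    ZT (i + 2) c := by
  intro M
  let S : ShortComplex (ModuleCat.{u} R) := ShortComplex.mk (ModuleCat.ofHom f) (ModuleCat.ofHom g)
    (by rw [← ModuleCat.ofHom_comp, h.linearMap_comp_eq_zero]; rfl)
  let S' : ShortComplex (ModuleCat.{u} R) := ShortComplex.mk (ModuleCat.ofHom f')
    (ModuleCat.ofHom g')
    (by rw [← ModuleCat.ofHom_comp, h'.linearMap_comp_eq_zero]; rfl)
  have hS : S.ShortExact := by
    have : Mono S.f := (ModuleCat.mono_iff_injective _).2 hf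
    have : Epi S.g := (ModuleCat.epi_iff_surjective _).2 hg
    exact { exact := (ShortComplex.ShortExact.moduleCat_exact_iff_function_exact _).2 h }
  have hS' : S'.ShortExact := by
    have : Mono S'.f := (ModuleCat.mono_iff_injective _).2 hf'
    have : Epi S'.g := (ModuleCat.epi_iff_surjective _).2 hg'
    exact { exact := (ShortComplex.ShortExact.moduleCat_exact_iff_function_exact _).2 h' }
  have : Projective S.X₂ := (IsProjective.iff_projective X₂).1 inferInstance
  have : Projective S'.X₂ := (IsProjective.iff_projective Y₂).1 inferInstance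
  let φ : S ⟶ S' :=
    { τ₁ := ModuleCat.ofHom a
      τ₂ := ModuleCat.ofHom b
      τ₃ := ModuleCat.ofHom c
      comm₁₂ := by
        change ModuleCat.ofHom a ≫ ModuleCat.ofHom f' = ModuleCat.ofHom f ≫ ModuleCat.ofHom b
        rw [← ModuleCat.ofHom_comp, ← ModuleCat.ofHom_comp, h1]
      comm₂₃ := by
        change ModuleCat.ofHom b ≫ ModuleCat.ofHom g' = ModuleCat.ofHom g ≫ ModuleCat.ofHom c
        rw [← ModuleCat.ofHom_comp, ← ModuleCat.ofHom_comp, h2] }
  exact TorShift2.leftDerived_map_eq_zero_of_shift ((MonoidalCategory.tensoringLeft _).obj M)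
    hS hS' φ i (ha M)

end ZT

section Tower

variable {B : Type u} [CommRing B] (J : Ideal B) (R : Type u) [CommRing R] [Algebra R B]

section QMap

variable {X Y Z : Type u} [AddCommGroup X] [Module B X] [Module R X] [IsScalarTower R B X]
  [AddCommGroup Y] [Module B Y] [Module R Y] [IsScalarTower R B Y]
  [AddCommGroup Z] [Module B Z] [Module R Z] [IsScalarTower R B Z]

/-- The `R`-linear map between quotients of `B`-modules. -/
def qmap (P : Submodule B X) (Q : Submodule B Y) (φ : X →ₗ[B] Y) (h : P ≤ Q.comap φ) :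
    (X ⧸ P) →ₗ[R] (Y ⧸ Q) :=
  (Submodule.mapQ P Q φ h).restrictScalars R

lemma qmap_mk (P : Submodule B X) (Q : Submodule B Y) (φ : X →ₗ[B] Y) (h : P ≤ Q.comap φ) (x : X) :
    qmap R P Q φ h (Submodule.Quotient.mk x) = Submodule.Quotient.mk (φ x) := rfl

lemma hom_ext' {P : Submodule B X} {W : Type*} [AddCommGroup W] [Module R W]
    {f g : (X ⧸ P) →ₗ[R] W}
    (h : ∀ x : X, f (Submodule.Quotient.mk x) = g (Submodule.Quotient.mk x)) : f = g := by
  refine LinearMap.ext fun y => ?_
  obtain ⟨x, rfl⟩ := Submodule.Quotient.mk_surjective _ y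
  exact h x

lemma qmap_comp {P : Submodule B X} {Q : Submodule B Y} {S : Submodule B Z} (φ : X →ₗ[B] Y)
    (ψ : Y →ₗ[B] Z) (h : P ≤ Q.comap φ) (h' : Q ≤ S.comap ψ) (χ : X →ₗ[B] Z)
    (hχ : P ≤ S.comap χ) (e : ψ ∘ₗ φ = χ) :
    qmap R Q S ψ h' ∘ₗ qmap R P Q φ h = qmap R P S χ hχ := by
  subst e
  refine hom_ext' R fun x => ?_
  rw [LinearMap.comp_apply, qmap_mk, qmap_mk, qmap_mk, LinearMap.comp_apply]

end QMap

lemma pow_smul_le (N : Type u) [AddCommGroup N] [Module B N] (n c : ℕ) :
    (J ^ n • ⊤ : Submodule B N) ≤ (J ^ (n - c) • ⊤ : Submodule B N).comap LinearMap.id :=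
  Submodule.smul_mono_left (Ideal.pow_le_pow_right (Nat.sub_le n c))

lemma pow_smul_le' {N N' : Type u} [AddCommGroup N] [Module B N] [AddCommGroup N'] [Module B N']
    (p : N →ₗ[B] N') (n : ℕ) :
    (J ^ n • ⊤ : Submodule B N) ≤ (J ^ n • ⊤ : Submodule B N').comap p := by
  rw [← Submodule.map_le_iff_le_comap, Submodule.map_smul'']
  exact smul_mono_right _ le_top

/-- The transition maps of the tower `N/J^n N`. -/
def tow (N : Type u) [AddCommGroup N] [Module B N] [Module R N] [IsScalarTower R B N] (n c : ℕ) :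
    (N ⧸ (J ^ n • ⊤ : Submodule B N)) →ₗ[R] (N ⧸ (J ^ (n - c) • ⊤ : Submodule B N)) :=
  qmap R _ _ LinearMap.id (pow_smul_le J N n c)

/-- Uniform pro-vanishing of `Tor_i^R(-, N/J^n N)`. -/
def Van (N : Type u) [AddCommGroup N] [Module B N] [Module R N] [IsScalarTower R B N]
    (i : ℕ) : Prop :=
  ∃ c : ℕ, ∀ n, c ≤ n → ZT i (tow J R N n c)

section Step

variable {G N : Type u} [AddCommGroup G] [Module B G] [Module R G] [IsScalarTower R B G]
    [AddCommGroup N] [Module B N] [Module R N] [IsScalarTower R B N]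
    (p : G →ₗ[B] N)

/-- left map -/
def lmap (m : ℕ) : (LinearMap.ker p ⧸ (J ^ m • ⊤ : Submodule B G).comap (LinearMap.ker p).subtype)
    →ₗ[R] (G ⧸ (J ^ m • ⊤ : Submodule B G)) :=
  qmap R _ _ (LinearMap.ker p).subtype le_rfl

/-- right map -/
def rmap (m : ℕ) : (G ⧸ (J ^ m • ⊤ : Submodule B G)) →ₗ[R] (N ⧸ (J ^ m • ⊤ : Submodule B N)) :=
  qmap R _ _ p (pow_smul_le' J p m)

lemma lmap_injective (m : ℕ) : Function.Injective (lmap J R p m) := by
  rw [injective_iff_map_eq_zero]
  intro x hx
  obtain ⟨x, rfl⟩ := Submodule.Quotient.mk_surjective _ x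
  rw [lmap, qmap_mk, Submodule.Quotient.mk_eq_zero] at hx
  rw [Submodule.Quotient.mk_eq_zero]
  exact hx

variable {p} in
lemma rmap_surjective (hp : Function.Surjective p) (m : ℕ) :
    Function.Surjective (rmap J R p m) := by
  intro x
  obtain ⟨x, rfl⟩ := Submodule.Quotient.mk_surjective _ x
  obtain ⟨y, rfl⟩ := hp x
  exact ⟨Submodule.Quotient.mk y, rfl⟩

variable {p} in
lemma lmap_rmap_exact (hp : Function.Surjective p) (m : ℕ) :
    Function.Exact (lmap J R p m) (rmap J R p m) := by
  intro y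
  constructor
  · intro hy
    obtain ⟨y, rfl⟩ := Submodule.Quotient.mk_surjective _ y
    rw [rmap, qmap_mk, Submodule.Quotient.mk_eq_zero] at hy
    have : (J ^ m • ⊤ : Submodule B N) = (J ^ m • ⊤ : Submodule B G).map p := by
      rw [Submodule.map_smul'', Submodule.map_top, LinearMap.range_eq_top.2 hp]
    rw [this] at hy
    obtain ⟨z, hz, hzy⟩ := hy
    have hyz : y - z ∈ LinearMap.ker p := by
      rw [LinearMap.mem_ker, map_sub, hzy, sub_self]
    refine ⟨Submodule.Quotient.mk ⟨y - z, hyz⟩, ?_⟩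
    rw [lmap, qmap_mk, ← sub_eq_zero, ← Submodule.Quotient.mk_sub, Submodule.Quotient.mk_eq_zero]
    have : y - z - y = - z := by abel
    change y - z - y ∈ _
    rw [this]
    exact Submodule.neg_mem _ hz
  · rintro ⟨x, rfl⟩
    obtain ⟨x, rfl⟩ := Submodule.Quotient.mk_surjective _ x
    rw [lmap, rmap, qmap_mk, qmap_mk, Submodule.subtype_apply, LinearMap.mem_ker.1 x.2,
      Submodule.Quotient.mk_zero]

variable {J p} in
lemma artinRees_comap {k : ℕ} (hk : ∀ n ≥ k, J ^ n • ⊤ ⊓ LinearMap.ker p =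
      J ^ (n - k) • (J ^ k • ⊤ ⊓ LinearMap.ker p)) (m : ℕ) (hm : k ≤ m) :
    (J ^ m • ⊤ : Submodule B G).comap (LinearMap.ker p).subtype ≤
      (J ^ (m - k) • ⊤ : Submodule B (LinearMap.ker p)) := by
  intro x hx
  have hx' : (x : G) ∈ J ^ m • ⊤ ⊓ LinearMap.ker p := ⟨hx, x.2⟩
  rw [hk m hm] at hx'
  have h1 : J ^ (m - k) • (J ^ k • ⊤ ⊓ LinearMap.ker p) ≤
      (J ^ (m - k) • ⊤ : Submodule B (LinearMap.ker p)).map (LinearMap.ker p).subtype := by
    rw [Submodule.map_smul'', Submodule.map_top, Submodule.range_subtype]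
    exact smul_mono_right _ inf_le_right
  obtain ⟨y, hy, hyx⟩ := h1 hx'
  have : y = x := Subtype.ext hyx
  rw [← this]
  exact hy

variable {p} in
/-- The inductive step. -/
theorem van_step [IsNoetherianRing B] [Module.Finite B G]
    (hG : ∀ n : ℕ, Module.Projective R (G ⧸ (J ^ n • ⊤ : Submodule B G)))
    (hp : Function.Surjective p) (i : ℕ)
    (h : Van J R (LinearMap.ker p) (i + 1)) : Van J R N (i + 2) := by
  obtain ⟨c, hc⟩ := h
  obtain ⟨k, hk⟩ := Ideal.exists_pow_inf_eq_pow_smul J (LinearMap.ker p)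
  refine ⟨k + c, ?_⟩
  intro n hn
  have hkn : k ≤ n := le_trans (Nat.le_add_right _ _) hn
  have e1 : n - k - c = n - (k + c) := by omega
  have hmono : (J ^ n • ⊤ : Submodule B G).comap (LinearMap.ker p).subtype ≤
      ((J ^ (n - (k + c)) • ⊤ : Submodule B G).comap (LinearMap.ker p).subtype).comap
        LinearMap.id :=
    Submodule.comap_mono (Submodule.smul_mono_left (Ideal.pow_le_pow_right (Nat.sub_le _ _)))
  have hback : (J ^ (n - k - c) • ⊤ : Submodule B (LinearMap.ker p)) ≤
      ((J ^ (n - (k + c)) • ⊤ : Submodule B G).comap (LinearMap.ker p).subtype).comap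
        LinearMap.id := by
    rw [e1]
    exact pow_smul_le' J (LinearMap.ker p).subtype _
  have ha : ZT (i + 1) (qmap R _ _ LinearMap.id hmono) := by
    have h1 := ((hc (n - k) (by omega)).comp_right
      (qmap R _ _ LinearMap.id (artinRees_comap hk n hkn))).comp_left
      (qmap R _ _ LinearMap.id hback)
    rw [tow, qmap_comp R _ _ _ _ LinearMap.id ((artinRees_comap hk n hkn).trans
      (pow_smul_le J _ (n - k) c)) rfl, qmap_comp R _ _ _ _ LinearMap.id hmono rfl] at h1
    exact h1
  have := hG n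
  have := hG (n - (k + c))
  refine zT_shift (lmap J R p n) (rmap J R p n) (lmap_injective J R p n)
    (lmap_rmap_exact J R hp n) (rmap_surjective J R hp n)
    (lmap J R p (n - (k + c))) (rmap J R p (n - (k + c))) (lmap_injective J R p _)
    (lmap_rmap_exact J R hp _) (rmap_surjective J R hp _) (qmap R _ _ LinearMap.id hmono)
    (tow J R G n (k + c)) _ ?_ ?_ i ha
  · refine hom_ext' R fun x => ?_
    rw [LinearMap.comp_apply, LinearMap.comp_apply, qmap_mk, lmap, lmap, qmap_mk, qmap_mk, tow,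
      qmap_mk]
    rfl
  · refine hom_ext' R fun x => ?_
    rw [LinearMap.comp_apply, LinearMap.comp_apply, tow, qmap_mk, rmap, rmap, qmap_mk, qmap_mk, tow,
      qmap_mk]
    rfl

end Step

/-- `N/J^n N` is projective over `R` for `N` finite projective over `B`. -/
theorem projective_quotient (hB : ∀ n : ℕ, Module.Projective R (B ⧸ J ^ n))
    (N : Type u) [AddCommGroup N] [Module B N] [Module R N] [IsScalarTower R B N]
    [Module.Finite B N] [Module.Projective B N] (n : ℕ) :
    Module.Projective R (N ⧸ (J ^ n • ⊤ : Submodule B N)) := by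
  obtain ⟨k, π, hπ⟩ := Module.Finite.exists_fin' B N
  obtain ⟨s, hs⟩ := Module.projective_lifting_property π LinearMap.id hπ
  let e : ((Fin k → B) ⧸ (J ^ n • ⊤ : Submodule B (Fin k → B))) ≃ₗ[B] (Fin k → (B ⧸ J ^ n)) :=
    (TensorProduct.quotTensorEquivQuotSMul (Fin k → B) (J ^ n)).symm ≪≫ₗ
      TensorProduct.piScalarRight B B (B ⧸ J ^ n) (Fin k)
  have h0 : Module.Projective R (Fin k → (B ⧸ J ^ n)) :=
    Module.Projective.of_equiv (DFinsupp.linearEquivFunOnFintype (R := R)
      (M := fun _ : Fin k => B ⧸ J ^ n))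
  have h1 : Module.Projective R ((Fin k → B) ⧸ (J ^ n • ⊤ : Submodule B (Fin k → B))) :=
    Module.Projective.of_equiv (e.restrictScalars R).symm
  refine Module.Projective.of_split
    (qmap R _ _ s (pow_smul_le' J s n)) (qmap R _ _ π (pow_smul_le' J π n)) ?_
  refine hom_ext' R fun x => ?_
  rw [LinearMap.comp_apply, qmap_mk, qmap_mk]
  have := LinearMap.congr_fun hs x
  simp only [LinearMap.comp_apply, LinearMap.id_apply] at this
  rw [this]
  rfl

/-- Uniform pro-vanishing above the projective dimension. -/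
theorem van_of_hasProjectiveDimensionLE [IsNoetherianRing B]
    (hB : ∀ n : ℕ, Module.Projective R (B ⧸ J ^ n)) (k : ℕ) :
    ∀ (N : Type u) [AddCommGroup N] [Module B N] [Module R N] [IsScalarTower R B N]
    [Module.Finite B N], HasProjectiveDimensionLE (ModuleCat.of B N) k → Van J R N (k + 1) := by
  induction k with
  | zero =>
    intro N _ _ _ _ _ hN
    have h1 : Projective (ModuleCat.of B N) := by
      rw [projective_iff_hasProjectiveDimensionLT_one]
      exact hN
    have h2 : Module.Projective B N := (IsProjective.iff_projective N).2 h1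
    refine ⟨0, fun n _ => ?_⟩
    have := projective_quotient J R hB N n
    exact zT_of_projective_left 0 _
  | succ k ih =>
    intro N _ _ _ _ _ hN
    obtain ⟨m, π, hπ⟩ := Module.Finite.exists_fin' B N
    let S : ShortComplex (ModuleCat.{u} B) := π.shortComplexKer
    have hS : S.ShortExact := LinearMap.shortExact_shortComplexKer hπ
    have hP : Projective S.X₂ := (IsProjective.iff_projective (Fin m → B)).1 inferInstance
    have h1 : HasProjectiveDimensionLE (ModuleCat.of B (LinearMap.ker π)) k :=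
      (hS.hasProjectiveDimensionLT_X₃_iff k hP).1 hN
    exact van_step J R (fun n => projective_quotient J R hB _ n) hπ k (ih _ h1)

end Tower

end Groth.Agent.CalgC.ProTor
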