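import Groth.Agent.LoccohA.TorLES
import Mathlib.RingTheory.Filtration
import Mathlib.LinearAlgebra.Finsupp.Span
import Mathlib.Algebra.Module.Torsion.Basic
import Mathlib.Algebra.Exact.Basic
import Mathlib.LinearAlgebra.TensorProduct.Quotient
import Mathlib.RingTheory.Noetherian.Basic
import Mathlib.RingTheory.Finiteness.Cardinality

/-!
# Vanishing of `Tor_i(M, R/I^n) → Tor_i(M, R/I^{n-c})`, `i > 0`, uniformly in all `M` killed by `I^m`
-/

set_option autoImplicit false
universe u

open CategoryTheory CategoryTheory.Limits MonoidalCategory TensorProduct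

namespace Groth.Agent.CalgC.ProTor2

open Groth.Agent.LoccohA.TorLES

variable {R : Type u} [CommRing R] (I : Ideal R)

/-- The transition map `R/I^a → R/I^b`. -/
def trl (a b : ℕ) (h : b ≤ a) : (R ⧸ I ^ a) →ₗ[R] (R ⧸ I ^ b) :=
  Submodule.mapQ (I ^ a) (I ^ b) LinearMap.id (Ideal.pow_le_pow_right h)

/-- The transition map `R/I^a → R/I^b` as a morphism. -/
def tr (a b : ℕ) (h : b ≤ a) : ModuleCat.of R (R ⧸ I ^ a) ⟶ ModuleCat.of R (R ⧸ I ^ b) :=
  ModuleCat.ofHom (trl I a b h)

lemma tr_comp (a b c : ℕ) (h : b ≤ a) (h' : c ≤ b) :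
    tr I a b h ≫ tr I b c h' = tr I a c (h'.trans h) := by
  rw [tr, tr, tr, ← ModuleCat.ofHom_comp]
  congr 1
  refine LinearMap.ext fun x => ?_
  obtain ⟨x, rfl⟩ := Submodule.Quotient.mk_surjective _ x
  rfl

/-- The transition maps with a drop of at least `c` vanish on `Tor_i(P, -)`. -/
def W (c i : ℕ) (P : Type u) [AddCommGroup P] [Module R P] : Prop :=
  ∀ (a b : ℕ) (h : b + c ≤ a),
    ((Tor (ModuleCat.{u} R) i).obj (ModuleCat.of R P)).map
      (tr I a b ((Nat.le_add_right b c).trans h)) = 0

variable {I} in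
lemma W.mono {c c' i : ℕ} {P : Type u} [AddCommGroup P] [Module R P] (h : W I c i P)
    (hc : c ≤ c') : W I c' i P := fun a b hab => h a b (by omega)

section Seq

variable {K F P : Type u} [AddCommGroup K] [Module R K] [AddCommGroup F] [Module R F]
  [AddCommGroup P] [Module R P] (f : K →ₗ[R] F) (g : F →ₗ[R] P)

/-- the short complex -/
def scx (h : Function.Exact f g) : ShortComplex (ModuleCat.{u} R) :=
  ShortComplex.mk (ModuleCat.ofHom f) (ModuleCat.ofHom g)
    (by rw [← ModuleCat.ofHom_comp, h.linearMap_comp_eq_zero]; rfl)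

variable {f g}

lemma scx_shortExact (hf : Function.Injective f) (h : Function.Exact f g)
    (hg : Function.Surjective g) : (scx f g h).ShortExact := by
  have : Mono (scx f g h).f := (ModuleCat.mono_iff_injective _).2 hf
  have : Epi (scx f g h).g := (ModuleCat.epi_iff_surjective _).2 hg
  exact { exact := (ShortComplex.ShortExact.moduleCat_exact_iff_function_exact _).2 h }

variable {I}

lemma torδ_injective [Module.Flat R F] (hf : Function.Injective f) (h : Function.Exact f g)
    (hg : Function.Surjective g) (N : ModuleCat.{u} R) (n : ℕ) :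
    Function.Injective (torδ (scx_shortExact hf h hg) N n).hom := by
  rw [injective_iff_map_eq_zero]
  intro x hx
  obtain ⟨y, rfl⟩ := (exact_map_δ (scx_shortExact hf h hg) N n x).1 hx
  have : Subsingleton (((Tor (ModuleCat.{u} R) (n + 1)).obj (scx f g h).X₂).obj N) :=
    subsingleton_tor_of_flat (ModuleCat.of R F) N n
  rw [Subsingleton.elim y 0, map_zero]

lemma torδ_nat (hf : Function.Injective f) (h : Function.Exact f g)
    (hg : Function.Surjective g) {N N' : ModuleCat.{u} R} (t : N ⟶ N') (n : ℕ)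
    (x : ((Tor (ModuleCat.{u} R) (n + 1)).obj (ModuleCat.of R P)).obj N) :
    (torδ (scx_shortExact hf h hg) N' n).hom
      ((((Tor (ModuleCat.{u} R) (n + 1)).obj (ModuleCat.of R P)).map t).hom x) =
      (((Tor (ModuleCat.{u} R) n).obj (ModuleCat.of R K)).map t).hom
        ((torδ (scx_shortExact hf h hg) N n).hom x) := by
  have := congrArg (fun φ => φ.hom x) (torδ_naturality_right (scx_shortExact hf h hg) t n)
  exact this

/-- Dimension shift in the first variable. -/
lemma W.shift [Module.Flat R F] (hf : Function.Injective f) (h : Function.Exact f g)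
    (hg : Function.Surjective g) {c i : ℕ} (hK : W I c i K) : W I c (i + 1) P := by
  intro a b hab
  refine ModuleCat.hom_ext (LinearMap.ext fun x => ?_)
  apply torδ_injective hf h hg
  rw [torδ_nat hf h hg, hK a b hab]
  exact (map_zero (torδ (scx_shortExact hf h hg) (ModuleCat.of R (R ⧸ I ^ b)) i).hom).symm

/-- Two out of three. -/
lemma W.trans (hf : Function.Injective f) (h : Function.Exact f g)
    (hg : Function.Surjective g) {c c' i : ℕ} (hK : W I c i K) (hF : W I c' (i + 1) F) :
    W I (c + c') (i + 1) P := by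
  intro a b hab
  have h1 := tr_comp I a (b + c') b (by omega) (by omega)
  rw [← h1, CategoryTheory.Functor.map_comp]
  refine ModuleCat.hom_ext (LinearMap.ext fun x => ?_)
  have h2 : (torδ (scx_shortExact hf h hg) _ i).hom
      ((((Tor (ModuleCat.{u} R) (i + 1)).obj (ModuleCat.of R P)).map
        (tr I a (b + c') (by omega))).hom x) = 0 := by
    rw [torδ_nat hf h hg, hK a (b + c') (by omega)]
    rfl
  obtain ⟨y, hy⟩ := (exact_map_δ (scx_shortExact hf h hg) _ i _).1 h2
  change (((Tor (ModuleCat.{u} R) (i + 1)).obj (ModuleCat.of R P)).map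
        (tr I (b + c') b (by omega))).hom ((((Tor (ModuleCat.{u} R) (i + 1)).obj
          (ModuleCat.of R P)).map (tr I a (b + c') (by omega))).hom x) = 0
  rw [← hy]
  have h3 := congrArg (fun φ => φ.hom y)
    (((Tor (ModuleCat.{u} R) (i + 1)).map (scx f g h).g).naturality (tr I (b + c') b (by omega)))
  refine (Eq.symm h3).trans ?_
  have h4 := hF (b + c') b le_rfl
  change (((Tor (ModuleCat.{u} R) (i + 1)).map (scx f g h).g).app _).hom
    ((((Tor (ModuleCat.{u} R) (i + 1)).obj (ModuleCat.of R F)).map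
        (tr I (b + c') b (by omega))).hom y) = 0
  rw [h4]
  exact map_zero _

/-- The base case. -/
lemma W.one [Module.Flat R F] (hf : Function.Injective f) (h : Function.Exact f g)
    (hg : Function.Surjective g) {c : ℕ}
    (hAR : ∀ (a b : ℕ), b + c ≤ a → ∀ k : K, f k ∈ (I ^ a • ⊤ : Submodule R F) →
      k ∈ (I ^ b • ⊤ : Submodule R K)) : W I c 1 P := by
  intro a b hab
  refine ModuleCat.hom_ext (LinearMap.ext fun x => ?_)
  apply torδ_injective hf h hg
  rw [torδ_nat hf h hg]
  change (((Tor (ModuleCat.{u} R) 0).obj (ModuleCat.of R K)).map (tr I a b _)).hom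
        ((torδ (scx_shortExact hf h hg) _ 0).hom x) = (torδ (scx_shortExact hf h hg) _ 0).hom 0
  rw [map_zero]
  have h1 : (((Tor (ModuleCat.{u} R) 0).map (scx f g h).f).app (ModuleCat.of R (R ⧸ I ^ a))).hom
      ((torδ (scx_shortExact hf h hg) _ 0).hom x) = 0 :=
    (exact_δ_map (scx_shortExact hf h hg) _ 0 _).2 ⟨x, rfl⟩
  generalize (torδ (scx_shortExact hf h hg) (ModuleCat.of R (R ⧸ I ^ a)) 0).hom x = y at h1
  -- move to the tensor product
  have hinj : Function.Injective
      (tor0Iso (ModuleCat.of R K) (ModuleCat.of R (R ⧸ I ^ b))).hom.hom :=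
    (ConcreteCategory.bijective_of_isIso
      (tor0Iso (ModuleCat.of R K) (ModuleCat.of R (R ⧸ I ^ b))).hom).1
  apply hinj
  refine Eq.trans ?_
    (map_zero (tor0Iso (ModuleCat.of R K) (ModuleCat.of R (R ⧸ I ^ b))).hom.hom).symm
  have h2 := congrArg (fun φ => φ.hom y)
    (tor0Iso_hom_naturality_right (ModuleCat.of R K) (tr I a b (by omega)))
  refine Eq.trans h2 ?_
  have h3 := congrArg (fun φ => φ.hom y)
    (tor0Iso_hom_naturality_left (scx f g h).f (ModuleCat.of R (R ⧸ I ^ a)))
  have h4 : (((scx f g h).f ▷ (ModuleCat.of R (R ⧸ I ^ a)))).hom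
      ((tor0Iso (ModuleCat.of R K) (ModuleCat.of R (R ⧸ I ^ a))).hom.hom y) = 0 := by
    refine Eq.trans (Eq.symm h3) ?_
    change (tor0Iso _ _).hom.hom ((((Tor (ModuleCat.{u} R) 0).map (scx f g h).f).app
      (ModuleCat.of R (R ⧸ I ^ a))).hom y) = 0
    rw [h1, map_zero]
  change ((ModuleCat.of R K) ◁ (tr I a b (by omega))).hom
      ((tor0Iso (ModuleCat.of R K) (ModuleCat.of R (R ⧸ I ^ a))).hom.hom y) = 0
  generalize (tor0Iso (ModuleCat.of R K) (ModuleCat.of R (R ⧸ I ^ a))).hom.hom y = z at h4
  change (K ⊗[R] (R ⧸ I ^ a) : Type u) at z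
  change LinearMap.rTensor (R ⧸ I ^ a) f z = 0 at h4
  change LinearMap.lTensor K (trl I a b (by omega)) z = 0
  obtain ⟨k, rfl⟩ : ∃ k : K, z = k ⊗ₜ[R] (1 : R ⧸ I ^ a) := by
    obtain ⟨w, hw⟩ := (TensorProduct.tensorQuotEquivQuotSMul K (I ^ a)).symm.surjective z
    obtain ⟨k, rfl⟩ := Submodule.Quotient.mk_surjective _ w
    refine ⟨k, ?_⟩
    rw [← hw]
    exact TensorProduct.tensorQuotEquivQuotSMul_symm_mk (I ^ a) k
  have h5 : f k ∈ (I ^ a • ⊤ : Submodule R F) := by
    rw [LinearMap.rTensor_tmul] at h4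
    rw [← TensorProduct.tensorQuotEquivQuotSMul_symm_mk,
      LinearEquiv.map_eq_zero_iff] at h4
    exact (Submodule.Quotient.mk_eq_zero _).1 h4
  have h7 := hAR a b hab k h5
  rw [LinearMap.lTensor_tmul]
  have h8 : trl I a b (by omega) (1 : R ⧸ I ^ a) = (1 : R ⧸ I ^ b) := rfl
  rw [h8]
  rw [← TensorProduct.tensorQuotEquivQuotSMul_symm_mk, LinearEquiv.map_eq_zero_iff]
  exact (Submodule.Quotient.mk_eq_zero _).2 h7

end Seq

section Finsupp

variable {I}

lemma mem_smul_top_finsupp_iff (J : Ideal R) {κ : Type u} {K : Type u} [AddCommGroup K]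
    [Module R K] (k : κ →₀ K) :
    k ∈ (J • ⊤ : Submodule R (κ →₀ K)) ↔ ∀ i, k i ∈ (J • ⊤ : Submodule R K) := by
  constructor
  · intro h i
    have h1 : (J • ⊤ : Submodule R (κ →₀ K)) ≤
        (J • ⊤ : Submodule R K).comap (Finsupp.lapply i) := by
      rw [← Submodule.map_le_iff_le_comap, Submodule.map_smul'']
      exact smul_mono_right _ le_top
    exact h1 h
  · intro h
    have h1 : ∀ i, (J • ⊤ : Submodule R K) ≤
        (J • ⊤ : Submodule R (κ →₀ K)).comap (Finsupp.lsingle i) := by
      intro i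
      rw [← Submodule.map_le_iff_le_comap, Submodule.map_smul'']
      exact smul_mono_right _ le_top
    rw [← Finsupp.sum_single k]
    exact Submodule.sum_mem _ fun i _ => h1 i (h i)

section

variable {κ : Type u} {K F P : Type u} [AddCommGroup K] [Module R K] [AddCommGroup F] [Module R F]
  [AddCommGroup P] [Module R P] {f : K →ₗ[R] F} {g : F →ₗ[R] P}

lemma mapRange_exact (hf : Function.Injective f) (h : Function.Exact f g) :
    Function.Exact (Finsupp.mapRange.linearMap (α := κ) f)
      (Finsupp.mapRange.linearMap (α := κ) g) := by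
  intro y
  constructor
  · intro hy
    have h1 : ∀ i, ∃ x, f x = y i := by
      intro i
      have := DFunLike.congr_fun hy i
      exact (h (y i)).1 this
    choose x hx using h1
    have hfin : ∀ i, x i ≠ 0 → i ∈ y.support := by
      intro i hi
      rw [Finsupp.mem_support_iff]
      intro h0
      apply hi
      apply hf
      rw [hx, h0, map_zero]
    refine ⟨Finsupp.onFinset y.support x hfin, ?_⟩
    ext i
    exact hx i
  · rintro ⟨x, rfl⟩
    ext i
    exact h.apply_apply_eq_zero (x i)

lemma mapRange_injective' (hf : Function.Injective f) :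
    Function.Injective (Finsupp.mapRange.linearMap (α := κ) f) := by
  intro x y hxy
  ext i
  exact hf (DFunLike.congr_fun hxy i)

lemma mapRange_surjective' (hg : Function.Surjective g) :
    Function.Surjective (Finsupp.mapRange.linearMap (α := κ) g) :=
  Finsupp.mapRange_surjective g (map_zero g) hg

end

/-- Finite modules and their direct sums. -/
theorem exists_W_finsupp [IsNoetherianRing R] (i : ℕ) :
    ∀ (Z : Type u) [AddCommGroup Z] [Module R Z] [Module.Finite R Z],
      ∃ c : ℕ, ∀ κ : Type u, W I c (i + 1) (κ →₀ Z) := by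
  induction i with
  | zero =>
    intro Z _ _ _
    obtain ⟨k, π, hπ⟩ := Module.Finite.exists_fin' R Z
    obtain ⟨c, hc⟩ := Ideal.exists_pow_inf_eq_pow_smul I (LinearMap.ker π)
    refine ⟨c, fun κ => ?_⟩
    refine W.one (K := κ →₀ LinearMap.ker π) (F := κ →₀ (Fin k → R))
      (mapRange_injective' (κ := κ) (LinearMap.ker π).subtype_injective)
      (mapRange_exact (LinearMap.ker π).subtype_injective (LinearMap.exact_subtype_ker_map π))
      (mapRange_surjective' hπ) ?_
    intro a b hab x hx
    rw [mem_smul_top_finsupp_iff] at hx ⊢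
    intro j
    have h1 : ((x j : LinearMap.ker π) : Fin k → R) ∈ I ^ a • ⊤ ⊓ LinearMap.ker π :=
      ⟨hx j, (x j).2⟩
    rw [hc a (by omega)] at h1
    have h2 : I ^ (a - c) • (I ^ c • ⊤ ⊓ LinearMap.ker π) ≤
        (I ^ b • ⊤ : Submodule R (LinearMap.ker π)).map (LinearMap.ker π).subtype := by
      rw [Submodule.map_smul'', Submodule.map_top, Submodule.range_subtype]
      exact Submodule.smul_mono (Ideal.pow_le_pow_right (by omega)) inf_le_right
    obtain ⟨y, hy, hyx⟩ := h2 h1
    have : y = x j := Subtype.ext hyx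
    rw [← this]
    exact hy
  | succ i ih =>
    intro Z _ _ _
    obtain ⟨k, π, hπ⟩ := Module.Finite.exists_fin' R Z
    obtain ⟨c, hc⟩ := ih (LinearMap.ker π)
    exact ⟨c, fun κ => W.shift (K := κ →₀ LinearMap.ker π) (F := κ →₀ (Fin k → R))
      (mapRange_injective' (κ := κ) (LinearMap.ker π).subtype_injective)
      (mapRange_exact (LinearMap.ker π).subtype_injective (LinearMap.exact_subtype_ker_map π))
      (mapRange_surjective' hπ) (hc κ)⟩

end Finsupp

section Main

variable {I}

theorem exists_W [IsNoetherianRing R] (m i : ℕ) :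
    ∃ c : ℕ, ∀ (M : Type u) [AddCommGroup M] [Module R M],
      (∀ a ∈ I ^ m, ∀ x : M, a • x = 0) → W I c (i + 1) M := by
  induction i with
  | zero =>
    refine ⟨m, fun M _ _ hM => ?_⟩
    let π : (M →₀ R) →ₗ[R] M := Finsupp.linearCombination R id
    have hπ : Function.Surjective π := Finsupp.linearCombination_id_surjective R M
    refine W.one (K := LinearMap.ker π) (F := M →₀ R) (LinearMap.ker π).subtype_injective
      (LinearMap.exact_subtype_ker_map π) hπ ?_
    intro a b hab x hx
    have h1 : (I ^ a • ⊤ : Submodule R (M →₀ R)) ≤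
        (I ^ b • ⊤ : Submodule R (LinearMap.ker π)).map (LinearMap.ker π).subtype := by
      rw [Submodule.map_smul'', Submodule.map_top, Submodule.range_subtype]
      have h2 : (I ^ m • ⊤ : Submodule R (M →₀ R)) ≤ LinearMap.ker π := by
        rw [Submodule.smul_le]
        intro r hr y _
        rw [LinearMap.mem_ker, map_smul, hM r hr]
      have h3 : I ^ a ≤ I ^ b * I ^ m := by
        rw [← pow_add]
        exact Ideal.pow_le_pow_right hab
      refine (Submodule.smul_mono_left h3).trans ?_
      rw [Submodule.mul_smul]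
      exact smul_mono_right _ h2
    obtain ⟨y, hy, hyx⟩ := h1 hx
    have : y = x := Subtype.ext hyx
    rw [← this]
    exact hy
  | succ i ih =>
    obtain ⟨c, hc⟩ := ih
    obtain ⟨c', hc'⟩ := exists_W_finsupp (I := I) (i + 1) (R ⧸ I ^ m)
    refine ⟨c + c', fun M _ _ hM => ?_⟩
    let q : M → (R ⧸ I ^ m) →ₗ[R] M := fun x =>
      (I ^ m).liftQ (LinearMap.toSpanSingleton R M x) (fun r hr => by
        rw [LinearMap.mem_ker, LinearMap.toSpanSingleton_apply, hM r hr])
    let π : (M →₀ (R ⧸ I ^ m)) →ₗ[R] M := Finsupp.lsum R q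
    have hπ : Function.Surjective π := by
      intro x
      refine ⟨Finsupp.single x (Submodule.Quotient.mk 1), ?_⟩
      change Finsupp.lsum R q (Finsupp.single x (Submodule.Quotient.mk 1)) = x
      rw [Finsupp.lsum_single]
      change (LinearMap.toSpanSingleton R M x) 1 = x
      rw [LinearMap.toSpanSingleton_apply, one_smul]
    have hK : ∀ a ∈ I ^ m, ∀ x : LinearMap.ker π, a • x = 0 := by
      intro a ha x
      apply Subtype.ext
      ext j
      change a • ((x : M →₀ (R ⧸ I ^ m)) j) = 0
      generalize (x : M →₀ (R ⧸ I ^ m)) j = y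
      obtain ⟨y, rfl⟩ := Submodule.Quotient.mk_surjective _ y
      rw [← Submodule.Quotient.mk_smul, Submodule.Quotient.mk_eq_zero, smul_eq_mul]
      exact Ideal.mul_mem_right _ _ ha
    exact W.trans (K := LinearMap.ker π) (F := M →₀ (R ⧸ I ^ m))
      (LinearMap.ker π).subtype_injective
      (LinearMap.exact_subtype_ker_map π) hπ (hc _ hK) (hc' M)

end Main

end Groth.Agent.CalgC.ProTor2
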