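import Groth.Agent.CalgC.SepField
import Mathlib.FieldTheory.KummerPolynomial
import Mathlib.RingTheory.Kaehler.Polynomial
import Mathlib.RingTheory.Etale.Kaehler
import Mathlib.FieldTheory.Finite.Basic
import Mathlib.Algebra.BigOperators.Field

/-!
# Vanishing of differentials and `p`-th powers
-/

set_option autoImplicit false

namespace Groth.Agent.CalgC.PthPower

open Algebra KaehlerDifferential TensorProduct Polynomial SepField

universe u v

/-- the powers `1, a, ..., a^(p-1)` are linearly independent over `K^p` if `a ∉ K^p`. -/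
theorem eq_zero_of_sum_pow_mul_pow_eq_zero {K : Type u} [Field K] {p : ℕ} (hp : p.Prime) [CharP K p]
    (a : K) (ha : ∀ b : K, b ^ p ≠ a) (c : Fin p → K)
    (hc : ∑ j : Fin p, c j ^ p * a ^ (j : ℕ) = 0) : c = 0 := by
  have : Fact p.Prime := ⟨hp⟩
  have : ExpChar K p := .prime hp
  let F : Subfield K := (frobenius K p).fieldRange
  have hap : a ^ p ∈ F := ⟨a, rfl⟩
  have hirr : Irreducible (X ^ p - C (⟨a ^ p, hap⟩ : F)) := by
    apply X_pow_sub_C_irreducible_of_prime hp
    rintro ⟨b, b', hb'⟩ hb
    have h1 : b ^ p = a ^ p := congrArg Subtype.val hb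
    have h2 : b = a := frobenius_inj K p h1
    exact ha b' (h2 ▸ hb')
  have hmin : minpoly F a = X ^ p - C (⟨a ^ p, hap⟩ : F) := by
    symm
    apply minpoly.eq_of_irreducible_of_monic hirr
    · simp only [map_sub, map_pow, aeval_X, aeval_C]
      exact sub_self _
    · exact monic_X_pow_sub_C _ hp.ne_zero
  have hdeg : p = (minpoly F a).natDegree := by
    rw [hmin, natDegree_X_pow_sub_C]
  have hli : LinearIndependent F (fun i : Fin p => a ^ (i : ℕ)) :=
    (linearIndependent_pow (K := F) a).comp (Fin.cast hdeg) (Fin.cast_injective hdeg)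
  rw [Fintype.linearIndependent_iff] at hli
  ext j
  have h1 := hli (fun j => ⟨c j ^ p, ⟨c j, rfl⟩⟩) hc j
  have h2 : c j ^ p = 0 := congrArg Subtype.val h1
  exact eq_zero_of_pow_eq_zero h2

/-- Every polynomial over `F_p` is of the form `∑ (c_j)^p X^j`. -/
theorem exists_eq_sum_pow_mul_X_pow {p : ℕ} [Fact p.Prime] (f : (ZMod p)[X]) :
    ∃ c : Fin p → (ZMod p)[X], f = ∑ j : Fin p, c j ^ p * X ^ (j : ℕ) := by
  have hp : p.Prime := Fact.out
  induction f using Polynomial.induction_on' with
  | add f g hf hg =>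
    obtain ⟨c, rfl⟩ := hf
    obtain ⟨d, rfl⟩ := hg
    refine ⟨c + d, ?_⟩
    rw [← Finset.sum_add_distrib]
    refine Finset.sum_congr rfl fun j _ => ?_
    rw [← add_mul, Pi.add_apply, add_pow_char]
  | monomial n α =>
    refine ⟨Pi.single ⟨n % p, Nat.mod_lt _ hp.pos⟩ (C α * X ^ (n / p)), ?_⟩
    rw [Finset.sum_eq_single ⟨n % p, Nat.mod_lt _ hp.pos⟩]
    · rw [Pi.single_eq_same, mul_pow, ← C_pow, ZMod.pow_card, ← pow_mul, mul_assoc, ← pow_add,
        Nat.div_add_mod' n p, C_mul_X_pow_eq_monomial]
    · intro b _ hb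
      rw [Pi.single_eq_of_ne hb, zero_pow hp.ne_zero, zero_mul]
    · intro h
      exact absurd (Finset.mem_univ _) h

/-- Every element of `F_p(T)` is of the form `∑ (c_j)^p T^j`. -/
theorem exists_eq_sum_pow_mul_X_pow' {p : ℕ} [Fact p.Prime] {E : Type*} [Field E]
    [Algebra (ZMod p)[X] E] [IsFractionRing (ZMod p)[X] E] (g : E) :
    ∃ c : Fin p → E, g = ∑ j : Fin p, c j ^ p * (algebraMap (ZMod p)[X] E X) ^ (j : ℕ) := by
  have hp : p.Prime := Fact.out
  obtain ⟨u, w, hw, rfl⟩ := IsFractionRing.div_surjective (A := (ZMod p)[X]) g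
  have hw0 : algebraMap (ZMod p)[X] E w ≠ 0 := by
    exact IsFractionRing.to_map_ne_zero_of_mem_nonZeroDivisors hw
  obtain ⟨c, hc⟩ := exists_eq_sum_pow_mul_X_pow (u * w ^ (p - 1))
  refine ⟨fun j => algebraMap _ E (c j) / algebraMap _ E w, ?_⟩
  have h1 := congrArg (algebraMap (ZMod p)[X] E) hc
  rw [map_sum] at h1
  simp only [map_mul, map_pow] at h1
  simp only [div_pow, div_mul_eq_mul_div, ← Finset.sum_div, ← h1]
  rw [div_eq_div_iff hw0 (pow_ne_zero _ hw0), mul_assoc, ← pow_succ,
    Nat.sub_add_cancel hp.one_le]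

/-- A criterion for MacLane's condition: some `E^p`-spanning family of `E` is linearly
independent over `K^p`. -/
theorem powIndep_of_span {E : Type u} {K : Type v} [Field E] [Field K] [Algebra E K] {p : ℕ}
    (hp : p.Prime) [CharP K p] {J : Type*} [Fintype J] (b : J → E)
    (hspan : ∀ g : E, ∃ c : J → E, g = ∑ j, c j ^ p * b j)
    (hli : ∀ c : J → K, ∑ j, c j ^ p * algebraMap E K (b j) = 0 → c = 0) : PowIndep E K p := by
  have : ExpChar K p := .prime hp
  have : Fact p.Prime := ⟨hp⟩
  apply powIndep_of_linearIndependent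
  intro n v hv
  rw [Fintype.linearIndependent_iff] at hv ⊢
  intro g hg
  choose c hc using fun i => hspan (g i)
  have h1 : ∑ j, (∑ i, c i j • v i) ^ p * algebraMap E K (b j) = 0 := by
    rw [← hg]
    have h0 : ∀ i, g i • v i ^ p = ∑ j, (algebraMap E K (c i j) ^ p * v i ^ p) *
        algebraMap E K (b j) := by
      intro i
      rw [Algebra.smul_def]
      conv_lhs => rw [hc i]
      rw [map_sum, Finset.sum_mul]
      refine Finset.sum_congr rfl fun j _ => ?_
      rw [map_mul, map_pow]; ring
    simp only [h0]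
    rw [Finset.sum_comm]
    refine Finset.sum_congr rfl fun j _ => ?_
    rw [sum_pow_char, Finset.sum_mul]
    refine Finset.sum_congr rfl fun i _ => ?_
    rw [Algebra.smul_def, mul_pow]
  have h2 := hli _ h1
  intro i
  have h3 : ∀ j, c i j = 0 := fun j => hv (fun i => c i j) (congrFun h2 j) i
  rw [hc i]
  simp [h3, hp.ne_zero]

/-- formal smoothness implies injectivity of the map on differentials. -/
theorem mapBaseChange_injective_of_formallySmooth (R S T : Type*) [CommRing R] [CommRing S]
    [CommRing T] [Algebra R S] [Algebra R T] [Algebra S T] [IsScalarTower R S T]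
    [Algebra.FormallySmooth S T] : Function.Injective (mapBaseChange R S T) := by
  rw [injective_iff_map_eq_zero]
  intro x hx
  obtain ⟨x, rfl⟩ := (Algebra.H1Cotangent.exact_δ_mapBaseChange R S T x).mp hx
  rw [Subsingleton.elim x 0, map_zero]

/-- An element of a field of characteristic `p` algebraic over the prime field is a `p`-th power. -/
theorem exists_pow_eq_of_isAlgebraic {K : Type u} [Field K] {p : ℕ} [Fact p.Prime]
    [Algebra (ZMod p) K] (a : K) (ha : IsAlgebraic (ZMod p) a) : ∃ b : K, b ^ p = a := by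
  have : Algebra.IsAlgebraic (ZMod p) (IntermediateField.adjoin (ZMod p) {a}) :=
    IntermediateField.isAlgebraic_adjoin (by
      intro x hx
      rw [Set.mem_singleton_iff] at hx
      subst hx
      exact ha.isIntegral)
  have h2 : PerfectField (IntermediateField.adjoin (ZMod p) {a}) :=
    Algebra.IsAlgebraic.perfectField (ZMod p)
  have h3 : CharP (IntermediateField.adjoin (ZMod p) {a}) p :=
    charP_of_injective_algebraMap' (ZMod p) p
  have h4 : ExpChar (IntermediateField.adjoin (ZMod p) {a}) p := .prime Fact.out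
  have h5 : PerfectRing (IntermediateField.adjoin (ZMod p) {a}) p := PerfectField.toPerfectRing p
  obtain ⟨b, hb⟩ := surjective_frobenius (IntermediateField.adjoin (ZMod p) {a}) p
    ⟨a, IntermediateField.mem_adjoin_simple_self _ a⟩
  exact ⟨b, congrArg Subtype.val hb⟩

/-- If `a` is not a `p`-th power in the field `K` of characteristic `p`, then `da ≠ 0` in
`Ω_{K/F_p}`. -/
theorem D_ne_zero_of_forall_pow_ne {K : Type u} [Field K] {p : ℕ} [Fact p.Prime]
    [Algebra (ZMod p) K] (a : K) (ha : ∀ b : K, b ^ p ≠ a) : D (ZMod p) K a ≠ 0 := by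
  have hp : p.Prime := Fact.out
  have hchar : CharP K p := charP_of_injective_algebraMap' (ZMod p) p
  have : ExpChar K p := .prime Fact.out
  -- `a` is transcendental over `F_p`
  have htr : Transcendental (ZMod p) a := by
    intro halg
    obtain ⟨b, hb⟩ := exists_pow_eq_of_isAlgebraic a halg
    exact ha b hb
  let φ : (ZMod p)[X] →ₐ[ZMod p] K := aeval a
  have hφ : Function.Injective φ := transcendental_iff_injective.mp htr
  let _ : Algebra (ZMod p)[X] K := φ.toRingHom.toAlgebra
  have : IsScalarTower (ZMod p) (ZMod p)[X] K := IsScalarTower.of_algebraMap_eq' φ.comp_algebraMap.symm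
  have : FaithfulSMul (ZMod p)[X] K := (faithfulSMul_iff_algebraMap_injective _ _).mpr hφ
  let _ : Algebra (FractionRing (ZMod p)[X]) K := FractionRing.liftAlgebra _ _
  have hst : IsScalarTower (ZMod p)[X] (FractionRing (ZMod p)[X]) K :=
    FractionRing.isScalarTower_liftAlgebra _ _
  have hX : algebraMap (FractionRing (ZMod p)[X]) K (algebraMap (ZMod p)[X] _ X) = a := by
    rw [← IsScalarTower.algebraMap_apply]
    exact aeval_X a
  have hind : PowIndep (FractionRing (ZMod p)[X]) K p := by
    apply powIndep_of_span hp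
      (fun j : Fin p => (algebraMap (ZMod p)[X] (FractionRing (ZMod p)[X]) X) ^ (j : ℕ))
      exists_eq_sum_pow_mul_X_pow'
    intro c hc
    apply eq_zero_of_sum_pow_mul_pow_eq_zero hp a ha
    simpa only [map_pow, hX] using hc
  have : CharP (FractionRing (ZMod p)[X]) p :=
    charP_of_injective_algebraMap (algebraMap (ZMod p) (FractionRing (ZMod p)[X])).injective p
  have h1 : Algebra.FormallySmooth (FractionRing (ZMod p)[X]) K := hind.formallySmooth hp
  have h2 : Algebra.FormallySmooth (ZMod p)[X] (FractionRing (ZMod p)[X]) :=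
    .of_isLocalization (nonZeroDivisors _)
  have h3 : Algebra.FormallySmooth (ZMod p)[X] K :=
    Algebra.FormallySmooth.comp (ZMod p)[X] (FractionRing (ZMod p)[X]) K
  have h4 := mapBaseChange_injective_of_formallySmooth (ZMod p) (ZMod p)[X] K
  intro hDa
  have h5 : (1 : K) ⊗ₜ[(ZMod p)[X]] D (ZMod p) (ZMod p)[X] X = 0 := by
    apply h4
    rw [map_zero, mapBaseChange_tmul, map_D, one_smul]
    show D (ZMod p) K (φ X) = 0
    rw [aeval_X, hDa]
  have h6 := congrArg (LinearMap.lTensor K (polynomialEquiv (ZMod p)).toLinearMap) h5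
  rw [LinearMap.lTensor_tmul, map_zero, LinearEquiv.coe_coe, polynomialEquiv_D, derivative_X] at h6
  have h7 := congrArg (TensorProduct.rid (ZMod p)[X] K) h6
  simp at h7

end Groth.Agent.CalgC.PthPower
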