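import Groth.Agent.CalgC.PthPower
import Mathlib.Algebra.Algebra.ZMod

/-!
# Separable extensions and injectivity on differentials
-/

set_option autoImplicit false

namespace Groth.Agent.CalgC.SepDiff

open Algebra KaehlerDifferential TensorProduct Polynomial SepField PthPower

universe u v

/-- In a ring where `p = 0`, `p`-th powers have zero differential. -/
theorem D_pow_char_eq_zero {R K M : Type*} [CommRing R] [CommRing K] [Algebra R K]
    [AddCommGroup M] [Module K M] [Module R M]
    (p : ℕ) [CharP K p] (d : Derivation R K M) (x : K) : d (x ^ p) = 0 := by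
  rw [Derivation.leibniz_pow, ← Nat.cast_smul_eq_nsmul K, CharP.cast_eq_zero, zero_smul]

/-- Over a field `k` of characteristic `p`: if `a` is not a `p`-th power then `da ≠ 0` in
`Ω_{k/ℤ}`. -/
theorem D_int_ne_zero_of_forall_pow_ne {K : Type u} [Field K] {p : ℕ} [Fact p.Prime] [CharP K p]
    (a : K) (ha : ∀ b : K, b ^ p ≠ a) : D ℤ K a ≠ 0 := by
  let _ : Algebra (ZMod p) K := ZMod.algebra K p
  have h1 := D_ne_zero_of_forall_pow_ne (p := p) a ha
  intro h
  apply h1
  have h2 := congrArg (KaehlerDifferential.map ℤ (ZMod p) K K) h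
  rwa [map_zero, map_D] at h2

theorem exists_pow_eq_of_D_int_eq_zero {K : Type u} [Field K] {p : ℕ} [Fact p.Prime] [CharP K p]
    {a : K} (ha : D ℤ K a = 0) : ∃ b : K, b ^ p = a := by
  by_contra! h
  exact D_int_ne_zero_of_forall_pow_ne a h ha

/-- If the map `K ⊗_k Ω_k → Ω_K` is injective then `K/k` satisfies MacLane's condition. -/
theorem powIndep_of_injective {k : Type u} {K : Type v} [Field k] [Field K] [Algebra k K] {p : ℕ}
    [Fact p.Prime] [CharP k p] (hinj : Function.Injective (mapBaseChange ℤ k K)) :
    PowIndep k K p := by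
  classical
  have hp : p.Prime := Fact.out
  have : ExpChar k p := .prime hp
  have : CharP K p := charP_of_injective_algebraMap' k p
  have : ExpChar K p := .prime hp
  apply powIndep_of_linearIndependent
  intro n v hv
  rw [Fintype.linearIndependent_iff] at hv
  by_contra hcon
  rw [Fintype.not_linearIndependent_iff] at hcon
  -- a relation with minimal support
  let S : Set (Fin n → k) := {g | ∑ i, g i • v i ^ p = 0 ∧ g ≠ 0}
  have hS : S.Nonempty := by
    obtain ⟨g, hg, i, hi⟩ := hcon
    exact ⟨g, hg, fun h => hi (congrFun h i)⟩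
  let μ : (Fin n → k) → ℕ := fun g => (Finset.univ.filter fun i => g i ≠ 0).card
  obtain ⟨g, ⟨hg, hg0⟩, hmin⟩ : ∃ g ∈ S, ∀ g' ∈ S, μ g ≤ μ g' := by
    exact ⟨Function.argminOn μ S hS, Function.argminOn_mem _ _ _,
      fun g' hg' => Function.argminOn_le _ _ hg'⟩
  obtain ⟨i₀, hi₀⟩ := Function.ne_iff.mp hg0
  rw [Pi.zero_apply] at hi₀
  -- normalise
  obtain ⟨g', hg', hg'i₀, hg'μ⟩ : ∃ g' : Fin n → k, ∑ i, g' i • v i ^ p = 0 ∧ g' i₀ = 1 ∧
      ∀ g'' ∈ S, μ g' ≤ μ g'' := by
    refine ⟨fun i => (g i₀)⁻¹ * g i, ?_, inv_mul_cancel₀ hi₀, ?_⟩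
    · simp only [mul_smul, ← Finset.smul_sum, hg, smul_zero]
    · intro g'' hg''
      have : μ (fun i => (g i₀)⁻¹ * g i) = μ g := by
        simp only [μ]
        congr 1
        ext i
        simp [hi₀]
      rw [this]
      exact hmin g'' hg''
  -- differentiate the relation
  have h1 : ∑ i, (v i ^ p) ⊗ₜ[k] D ℤ k (g' i) = 0 := by
    apply hinj
    rw [map_zero, map_sum]
    simp only [mapBaseChange_tmul, map_D]
    have h2 := congrArg (D ℤ K) hg'
    rw [map_zero, map_sum] at h2
    rw [← h2]
    refine Finset.sum_congr rfl fun i _ => ?_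
    rw [Algebra.smul_def, Derivation.leibniz, D_pow_char_eq_zero, smul_zero, zero_add]
  have h2 : ∀ i, D ℤ k (g' i) = 0 := by
    intro i
    rw [← Module.forall_dual_apply_eq_zero_iff k]
    intro l
    by_contra hne
    have h3 := congrArg (TensorProduct.rid k K) (congrArg (LinearMap.lTensor K l) h1)
    rw [map_sum, map_sum, map_zero, map_zero] at h3
    simp only [LinearMap.lTensor_tmul, TensorProduct.rid_tmul] at h3
    have h4 := hg'μ (fun i => l (D ℤ k (g' i))) ⟨h3, fun h => hne (congrFun h i)⟩
    have h5 : μ (fun i => l (D ℤ k (g' i))) < μ g' := by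
      apply Finset.card_lt_card
      rw [Finset.ssubset_iff_of_subset]
      · refine ⟨i₀, ?_, ?_⟩
        · simp [hg'i₀]
        · simp [hg'i₀]
      · intro j hj
        simp only [Finset.mem_filter, Finset.mem_univ, true_and] at hj ⊢
        intro h0
        apply hj
        rw [h0, map_zero, map_zero]
    exact absurd h4 (not_le.mpr h5)
  choose h hh using fun i => exists_pow_eq_of_D_int_eq_zero (p := p) (h2 i)
  have h3 : (∑ i, h i • v i) ^ p = 0 := by
    rw [sum_pow_char, ← hg']
    refine Finset.sum_congr rfl fun i _ => ?_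
    rw [← hh i, Algebra.smul_def, Algebra.smul_def, mul_pow, map_pow]
  have h4 := hv h (eq_zero_of_pow_eq_zero h3) i₀
  have h5 := hh i₀
  rw [h4, hg'i₀, zero_pow hp.ne_zero] at h5
  exact zero_ne_one h5

/-- Characteristic `p`: geometric reducedness, formal smoothness, MacLane's condition and
injectivity on differentials are equivalent. -/
theorem tfae (k : Type v) (K : Type u) [Field k] [Field K] [Algebra k K] (p : ℕ)
    [Fact p.Prime] [CharP k p] :
    List.TFAE [IsGeometricallyReduced k K, Algebra.FormallySmooth k K,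
      Function.Injective (mapBaseChange ℤ k K), PowIndep k K p] := by
  have hp : p.Prime := Fact.out
  tfae_have 1 → 4 := fun _ => powIndep_of_isGeometricallyReduced p
  tfae_have 4 → 1 := fun h => h.isGeometricallyReduced hp
  tfae_have 4 → 2 := fun h => h.formallySmooth hp
  tfae_have 2 → 3 := fun _ => mapBaseChange_injective_of_formallySmooth ℤ k K
  tfae_have 3 → 4 := powIndep_of_injective
  tfae_finish

/-- A field extension is formally smooth iff it is geometrically reduced. -/
theorem formallySmooth_iff_isGeometricallyReduced (k : Type v) (K : Type u) [Field k] [Field K]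
    [Algebra k K] : Algebra.FormallySmooth k K ↔ IsGeometricallyReduced k K := by
  obtain h | ⟨p, hp, hpk⟩ := CharP.exists' k
  · exact ⟨fun _ => isGeometricallyReduced_of_perfectField k K,
      fun _ => formallySmooth_of_perfectField k K⟩
  · exact (tfae k K p).out 1 0

end Groth.Agent.CalgC.SepDiff
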