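import Groth.Agent.VarietyA.GeomIrrB
import Mathlib.FieldTheory.LinearDisjoint
import Mathlib.FieldTheory.IsSepClosed
import Mathlib.FieldTheory.PrimitiveElement

/-!
# Linear disjointness from the separable closure

If `K/k` is a field extension such that every element of `K` separable algebraic over `k` lies in
`k`, then `K` is linearly disjoint from the separable closure of `k` in any extension `Ω` of `K`.
Consequence: `Spec (k' ⊗[k] K)` is irreducible for every field extension `k'/k`.
-/

namespace Groth.Agent.CalgC.SepDisj

open Polynomial TensorProduct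

universe u v w

/-- If `k` is separably algebraically closed in `K`, the minimal polynomial over `K` of an element
separable over `k` (in an algebraically closed field) has coefficients in `k`. -/
theorem minpoly_eq_map {k : Type u} {K : Type v} {Ω : Type w} [Field k] [Field K] [Field Ω]
    [Algebra k K] [Algebra k Ω] [Algebra K Ω] [IsScalarTower k K Ω] [IsAlgClosed Ω]
    (hK : ∀ x : K, IsSeparable k x → x ∈ Set.range (algebraMap k K))
    (α : Ω) (hα : IsSeparable k α) : minpoly K α = (minpoly k α).map (algebraMap k K) := by
  have hint : IsIntegral k α := hα.isIntegral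
  have hintK : IsIntegral K α := hint.tower_top
  have hdvd : minpoly K α ∣ (minpoly k α).map (algebraMap k K) :=
    minpoly.dvd_map_of_isScalarTower k K α
  -- coefficients of the minimal polynomial over `K` are separable over `k`
  have hcoef : (minpoly K α) ∈ Polynomial.lifts (algebraMap k K) := by
    rw [Polynomial.lifts_iff_coeff_lifts]
    intro n
    apply hK
    have hprod := (IsAlgClosed.splits ((minpoly K α).map (algebraMap K Ω))).eq_prod_roots_of_monic
      ((minpoly.monic hintK).map _)
    have hlift : (minpoly K α).map (algebraMap K Ω) ∈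
        Polynomial.lifts (algebraMap (separableClosure k Ω) Ω) := by
      rw [hprod]
      refine multiset_prod_mem _ fun f hf => ?_
      obtain ⟨β, hβ, rfl⟩ := Multiset.mem_map.1 hf
      have hβ0 : aeval β (minpoly k α) = 0 := by
        have h1 : aeval β (minpoly K α) = 0 := by
          rw [aeval_def, eval₂_eq_eval_map]
          exact (mem_roots'.1 hβ).2
        obtain ⟨g, hg⟩ := hdvd
        have h2 := congrArg (aeval β) hg
        rw [map_mul, h1, zero_mul, aeval_map_algebraMap] at h2
        exact h2
      have hβs : IsSeparable k β := hα.of_dvd (minpoly.dvd k β hβ0)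
      have hβm : β ∈ separableClosure k Ω := mem_separableClosure_iff.2 hβs
      refine ⟨X - C ⟨β, hβm⟩, ?_⟩
      simp
    rw [Polynomial.lifts_iff_coeff_lifts] at hlift
    obtain ⟨c, hc⟩ := hlift n
    rw [coeff_map] at hc
    have hcs : IsSeparable k (algebraMap K Ω ((minpoly K α).coeff n)) := by
      rw [← hc]
      exact mem_separableClosure_iff.1 c.2
    have := minpoly.algebraMap_eq (A := k) (algebraMap K Ω).injective ((minpoly K α).coeff n)
    unfold IsSeparable at hcs ⊢
    rwa [this] at hcs
  obtain ⟨p, hp, hdeg, hmon⟩ := Polynomial.lifts_and_natDegree_eq_and_monic hcoef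
    (minpoly.monic hintK)
  have h0 : aeval α p = 0 := by
    have := minpoly.aeval K α
    rw [← hp, aeval_map_algebraMap] at this
    exact this
  have hdvd' : minpoly k α ∣ p := minpoly.dvd k α h0
  refine (Polynomial.eq_of_monic_of_dvd_of_natDegree_le (minpoly.monic hintK)
    ((minpoly.monic hint).map _) hdvd ?_).symm
  rw [natDegree_map, ← hdeg]
  exact natDegree_le_of_dvd hdvd' hmon.ne_zero

/-- If `k` is separably algebraically closed in `K`, then `K` is linearly disjoint over `k` from
the separable closure of `k` in an algebraically closed extension of `K`. -/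
theorem linearDisjoint_separableClosure {k : Type u} {K : Type v} {Ω : Type w} [Field k] [Field K]
    [Field Ω] [Algebra k K] [Algebra k Ω] [Algebra K Ω] [IsScalarTower k K Ω] [IsAlgClosed Ω]
    (hK : ∀ x : K, IsSeparable k x → x ∈ Set.range (algebraMap k K)) :
    (separableClosure k Ω).LinearDisjoint K := by
  have : Algebra.IsIntegral k (separableClosure k Ω).toSubalgebra :=
    inferInstanceAs (Algebra.IsIntegral k (separableClosure k Ω))
  refine Subalgebra.LinearDisjoint.of_linearDisjoint_finite_left _ _ fun A hA _ => ?_
  have hAf : IsField A := by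
    exact isField_of_isIntegral_of_isField' (R := k) (Field.toIsField k)
  let E : IntermediateField k Ω := Subalgebra.toIntermediateField' A hAf
  have hE : E ≤ separableClosure k Ω := fun x hx => hA hx
  have : FiniteDimensional k E := inferInstanceAs (Module.Finite k A)
  have : Algebra.IsSeparable k E := (le_separableClosure_iff k Ω E).1 hE
  change E.LinearDisjoint K
  obtain ⟨a, ha⟩ := Field.exists_primitive_element k E
  let pb := Field.powerBasisOfFiniteOfSeparable k E
  have hgen : IsSeparable k (pb.gen : Ω) := mem_separableClosure_iff.1 (hE pb.gen.2)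
  refine IntermediateField.LinearDisjoint.of_basis_left pb.basis ?_
  have hli := linearIndependent_pow (K := K) (pb.gen : Ω)
  rw [minpoly_eq_map hK _ hgen, natDegree_map] at hli
  have hd : (minpoly k (pb.gen : Ω)).natDegree = pb.dim := by
    have := minpoly.algebraMap_eq (A := k) (algebraMap E Ω).injective pb.gen
    rw [← pb.natDegree_minpoly, ← this]
    rfl
  have hcomp : (E.val ∘ pb.basis) = (fun i : Fin (minpoly k (pb.gen : Ω)).natDegree =>
      (pb.gen : Ω) ^ (i : ℕ)) ∘ (finCongr hd.symm) := by
    ext i
    simp
  rw [hcomp]
  exact hli.comp _ (finCongr hd.symm).injective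

/-- If `k` is separably algebraically closed in `K`, then `ks ⊗[k] K` is a domain. -/
theorem isDomain_separableClosure_tensor {k : Type u} {K : Type v} {Ω : Type w} [Field k] [Field K]
    [Field Ω] [Algebra k K] [Algebra k Ω] [Algebra K Ω] [IsScalarTower k K Ω] [IsAlgClosed Ω]
    (hK : ∀ x : K, IsSeparable k x → x ∈ Set.range (algebraMap k K)) :
    IsDomain (separableClosure k Ω ⊗[k] K) :=
  (linearDisjoint_separableClosure hK).isDomain

/-- Auxiliary: if `ks ⊗[k] K` is a domain with `ks` separably closed, then `Ω' ⊗[k] K` has prime
nilradical for all extensions `Ω'/ks`. -/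
theorem isPrime_nilradical_aux (k ks K Ω' : Type*) [Field k] [Field ks] [IsSepClosed ks]
    [CommRing K] [CommRing Ω'] [IsDomain Ω'] [Algebra k ks] [Algebra k K] [Algebra k Ω']
    [Algebra ks Ω'] [IsScalarTower k ks Ω'] (hdom : IsDomain (ks ⊗[k] K)) :
    (nilradical (Ω' ⊗[k] K)).IsPrime := by
  have h1 : (nilradical (Ω' ⊗[ks] (ks ⊗[k] K))).IsPrime :=
    VarietyA.GeomIrr.isPrime_nilradical_tensorProduct (k := ks) Ω' (ks ⊗[k] K)
  let e := Algebra.TensorProduct.cancelBaseChange k ks ks Ω' K
  exact VarietyA.GeomIrr.isPrime_nilradical_of_injective e.symm.toRingEquiv.toRingHom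
      e.symm.injective h1

/-- If `k` is separably algebraically closed in `K`, then the nilradical of `k' ⊗[k] K` is prime
for every field extension `k'` of `k`. -/
theorem isPrime_nilradical_tensorProduct {k : Type u} {K : Type v} (k' : Type w) [Field k] [Field K]
    [Field k'] [Algebra k K] [Algebra k k']
    (hK : ∀ x : K, IsSeparable k x → x ∈ Set.range (algebraMap k K)) :
    (nilradical (k' ⊗[k] K)).IsPrime := by
  let Ω := AlgebraicClosure K
  let Ω' := AlgebraicClosure k'
  let ks := separableClosure k Ω
  have hdom : IsDomain (ks ⊗[k] K) := isDomain_separableClosure_tensor hK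
  have : IsSepClosed ks := IsSepClosure.sep_closed k
  let j : ks →ₐ[k] Ω' := IsAlgClosed.lift
  let : Algebra ks Ω' := j.toRingHom.toAlgebra
  have : IsScalarTower k ks Ω' := IsScalarTower.of_algebraMap_eq fun x => (j.commutes x).symm
  have h2 : (nilradical (Ω' ⊗[k] K)).IsPrime := isPrime_nilradical_aux k ks K Ω' hdom
  refine VarietyA.GeomIrr.isPrime_nilradical_of_injective
    (Algebra.TensorProduct.map (IsScalarTower.toAlgHom k k' Ω') (AlgHom.id k K)).toRingHom ?_ h2
  exact Module.Flat.rTensor_preserves_injective_linearMap (M := K)
    (IsScalarTower.toAlgHom k k' Ω').toLinearMap (algebraMap k' Ω').injective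

/-- If `k ⊂ K` is an extension of fields such that `K ⊗[k] K` has prime nilradical,
then every element of `K` separable over `k` is in `k`. -/
theorem mem_range_of_isSeparable {k : Type u} {K : Type v} [Field k] [Field K] [Algebra k K]
    (h : (nilradical (K ⊗[k] K)).IsPrime) (α : K) (hα : IsSeparable k α) :
    α ∈ Set.range (algebraMap k K) := by
  set T := K ⊗[k] K
  let l : K →ₐ[k] T := Algebra.TensorProduct.includeLeft
  let r : K →ₐ[k] T := Algebra.TensorProduct.includeRight
  let x : T := r α - l α
  -- factor the minimal polynomial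
  obtain ⟨g, hg⟩ := dvd_iff_isRoot.2 (show ((minpoly k α).map (algebraMap k K)).IsRoot α by
    rw [IsRoot.def, eval_map_algebraMap]; exact minpoly.aeval k α)
  have hgα : g.eval α ≠ 0 := by
    have hsep : ((minpoly k α).map (algebraMap k K)).Separable := Separable.map hα
    intro h0
    rw [hg] at hsep
    obtain ⟨g', rfl⟩ := dvd_iff_isRoot.2 h0
    rw [← mul_assoc] at hsep
    have := hsep.of_mul_left
    exact (Polynomial.not_isUnit_X_sub_C α) (this.squarefree _ dvd_rfl)
  have hmul : x * (g.map l.toRingHom).eval (r α) = 0 := by
    have h1 : ((minpoly k α).map (algebraMap k T)).eval (r α) = 0 := by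
      rw [eval_map_algebraMap, aeval_algHom_apply, minpoly.aeval, map_zero]
    have h2 : (minpoly k α).map (algebraMap k T) =
        ((minpoly k α).map (algebraMap k K)).map l.toRingHom := by
      rw [Polynomial.map_map]
      congr 1
    rw [h2, hg, Polynomial.map_mul, eval_mul] at h1
    simpa [x] using h1
  have hx : IsNilpotent x := by
    have h0 : x * (g.map l.toRingHom).eval (r α) ∈ nilradical T := by rw [hmul]; exact zero_mem _
    rcases h.mem_or_mem h0 with h1 | h1
    · exact h1
    · exfalso
      have h2 := (mem_nilradical.1 h1).map (Algebra.TensorProduct.lmul' k (S := K))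
      have h3 : Algebra.TensorProduct.lmul' k (S := K) ((g.map l.toRingHom).eval (r α)) =
          g.eval α := by
        have h4 := Polynomial.hom_eval₂ (g.map l.toRingHom) (RingHom.id T)
          (Algebra.TensorProduct.lmul' k (S := K)).toRingHom (r α)
        rw [← Polynomial.eval, RingHom.comp_id, ← eval_map, Polynomial.map_map] at h4
        have h5 : (Algebra.TensorProduct.lmul' k (S := K)).toRingHom.comp l.toRingHom =
            RingHom.id K := by
          ext y
          change Algebra.TensorProduct.lmul' k (y ⊗ₜ[k] (1 : K)) = y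
          simp
        rw [h5, Polynomial.map_id] at h4
        have h6 : (Algebra.TensorProduct.lmul' k (S := K)).toRingHom (r α) = α := by
          change Algebra.TensorProduct.lmul' k ((1 : K) ⊗ₜ[k] α) = α
          simp
        rw [h6] at h4
        exact h4
      rw [h3] at h2
      exact hgα h2.eq_zero
  have hu : IsUnit ((g.map l.toRingHom).eval (r α)) := by
    obtain ⟨c, hc⟩ := Polynomial.sub_dvd_eval_sub (r α) (l α) (g.map l.toRingHom)
    have h1 : (g.map l.toRingHom).eval (l α) = l (g.eval α) := by
      have := Polynomial.eval_map_apply l.toRingHom α (p := g)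
      exact this
    have h2 : (g.map l.toRingHom).eval (r α) = l (g.eval α) + x * c := by
      rw [← h1, ← hc]; ring
    rw [h2]
    refine IsNilpotent.isUnit_add_left_of_commute ?_ ?_ (Commute.all _ _)
    · exact (Commute.all x c).isNilpotent_mul_right hx
    · exact (isUnit_iff_ne_zero.2 hgα).map l
  have hx0 : x = 0 := by
    rwa [hu.mul_left_eq_zero] at hmul
  by_contra hcon
  obtain ⟨f, hf, hker⟩ := Submodule.exists_le_ker_of_notMem (p := (1 : Submodule k K)) (v := α) (by
    simpa using hcon)
  have hf1 : f 1 = 0 := hker (Submodule.one_le.1 le_rfl)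
  have h3 : ((TensorProduct.lid k K).toLinearMap ∘ₗ f.rTensor K)
      ((1 : K) ⊗ₜ[k] α - α ⊗ₜ[k] (1 : K)) = 0 := by
    change ((TensorProduct.lid k K).toLinearMap ∘ₗ f.rTensor K) x = 0
    rw [hx0, map_zero]
  simp [hf1] at h3
  exact hf h3

end Groth.Agent.CalgC.SepDisj
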