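import Groth.Agent.CalgC.H1Limit
import Mathlib.RingTheory.Smooth.Field
import Mathlib.RingTheory.Nilpotent.GeometricallyReduced
import Mathlib.FieldTheory.IsAlgClosed.AlgebraicClosure

/-!
# Separable (geometrically reduced) field extensions
-/

set_option autoImplicit false

namespace Groth.Agent.CalgC.SepField

open Algebra KaehlerDifferential TensorProduct

universe u v

/-- MacLane's condition: `p`-th powers of linearly independent elements are linearly independent. -/
def PowIndep (k : Type u) (K : Type v) [Field k] [Field K] [Algebra k K] (p : ℕ) : Prop :=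
  ∀ s : Finset K, LinearIndepOn k _root_.id (s : Set K) → LinearIndepOn k (· ^ p) (s : Set K)

section

variable {k : Type u} {K : Type v} [Field k] [Field K] [Algebra k K] {p : ℕ}

theorem PowIndep.linearIndependent (h : PowIndep k K p) {ι : Type*} {v : ι → K}
    (hv : LinearIndependent k v) : LinearIndependent k (fun i => v i ^ p) := by
  classical
  rw [linearIndependent_iff_finset_linearIndependent]
  intro s
  have hinj := hv.injective
  have h1 : LinearIndepOn k _root_.id ((s.image v : Finset K) : Set K) := by
    rw [Finset.coe_image]
    exact ((hv.linearIndepOn_id).mono (Set.image_subset_range _ _))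
  have h2 := h _ h1
  rw [Finset.coe_image] at h2
  exact h2.comp_of_image hinj.injOn

theorem powIndep_of_linearIndependent
    (h : ∀ (n : ℕ) (v : Fin n → K), LinearIndependent k v → LinearIndependent k (fun i => v i ^ p)) :
    PowIndep k K p := by
  intro s hs
  have h1 := h s.card (fun i => (s.equivFin.symm i : K))
    ((linearIndependent_equiv s.equivFin.symm).mpr hs)
  exact (linearIndependent_equiv s.equivFin.symm (f := fun x : s => (x : K) ^ p)).mp h1

/-- `PowIndep` passes to sub-extensions. -/
theorem PowIndep.of_algHom {K' : Type*} [Field K'] [Algebra k K'] (f : K' →ₐ[k] K)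
    (h : PowIndep k K p) : PowIndep k K' p := by
  apply powIndep_of_linearIndependent
  intro n v hv
  have h1 : LinearIndependent k (f ∘ v) := hv.map' f.toLinearMap (LinearMap.ker_eq_bot.mpr f.injective)
  have h2 := h.linearIndependent h1
  have h3 : (fun i => (f ∘ v) i ^ p) = f.toLinearMap ∘ (fun i => v i ^ p) := by
    ext i; simp
  rw [h3] at h2
  exact LinearIndependent.of_comp _ h2

variable (p) in
theorem powIndep_of_isGeometricallyReduced [Fact p.Prime] [CharP k p]
    [IsGeometricallyReduced k K] : PowIndep k K p := by
  have hred : IsReduced (AlgebraicClosure k ⊗[k] K) :=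
    (isGeometricallyReduced_field_iff k K).mp inferInstance
  have : CharP (AlgebraicClosure k) p := charP_of_injective_algebraMap' k p
  have : Nontrivial (AlgebraicClosure k ⊗[k] K) :=
    Algebra.TensorProduct.nontrivial_of_algebraMap_injective_of_flat_left _ _ _
      (algebraMap k K).injective
  have : CharP (AlgebraicClosure k ⊗[k] K) p :=
    charP_of_injective_algebraMap (algebraMap (AlgebraicClosure k) (AlgebraicClosure k ⊗[k] K)).injective p
  apply powIndep_of_linearIndependent
  intro n v hv
  rw [Fintype.linearIndependent_iff]
  intro g hg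
  choose α hα using fun i => IsAlgClosed.exists_pow_nat_eq (k := AlgebraicClosure k)
    (algebraMap k _ (g i)) (Fact.out : p.Prime).pos
  have h1 : (∑ i, α i ⊗ₜ[k] v i : AlgebraicClosure k ⊗[k] K) ^ p = 0 := by
    rw [sum_pow_char]
    simp only [Algebra.TensorProduct.tmul_pow, hα]
    have : ∀ i, (algebraMap k (AlgebraicClosure k) (g i)) ⊗ₜ[k] (v i ^ p) =
        1 ⊗ₜ[k] (g i • v i ^ p) := by
      intro i
      rw [Algebra.algebraMap_eq_smul_one, TensorProduct.smul_tmul]
    simp only [this, ← TensorProduct.tmul_sum, hg, TensorProduct.tmul_zero]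
  have h2 := eq_zero_of_pow_eq_zero h1
  have h3 : LinearIndependent (AlgebraicClosure k) (fun i => (1 : AlgebraicClosure k) ⊗ₜ[k] v i) :=
    Module.Flat.linearIndependent_one_tmul hv
  rw [Fintype.linearIndependent_iff] at h3
  intro i
  have h4 : α i = 0 := by
    apply h3 α
    simpa [TensorProduct.smul_tmul'] using h2
  have h5 := hα i
  rw [h4, zero_pow (Fact.out : p.Prime).ne_zero] at h5
  exact (map_eq_zero _).mp h5.symm

/-- MacLane's condition implies formal smoothness, finitely generated case. -/
theorem PowIndep.formallySmooth_of_essFiniteType (hp : p.Prime) [CharP k p]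
    (h : PowIndep k K p) [EssFiniteType k K] : Algebra.FormallySmooth k K := by
  have : ExpChar k p := .prime hp
  obtain ⟨s, hs, H⟩ :=
    exists_isTranscendenceBasis_and_isSeparable_of_linearIndepOn_pow_of_essFiniteType p hp h
  have : Algebra.IsSeparable (↥(IntermediateField.adjoin k (Set.range ((↑) : s → K)))) K := by
    convert! H <;> simp
  exact .of_algebraicIndependent_of_isSeparable hs.1

end

section

variable {k : Type v} {K : Type u} [Field k] [Field K] [Algebra k K] {p : ℕ}

/-- formal smoothness of a field extension can be checked on finitely generated subextensions. -/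
theorem formallySmooth_of_forall_essFiniteType
    (h : ∀ L : IntermediateField k K, EssFiniteType k L → Algebra.FormallySmooth k L) :
    Algebra.FormallySmooth k K := by
  refine ⟨inferInstance, ⟨fun x y => ?_⟩⟩
  suffices H : ∀ x : H1Cotangent k K, x = 0 by rw [H x, H y]
  clear x y
  intro x
  obtain ⟨s, hs⟩ := H1Limit.exists_finset_mem_range_map x
  have h1 : EssFiniteType k (IntermediateField.adjoin k (s : Set K)) := by
    exact (IntermediateField.essFiniteType_iff).mpr ⟨s, rfl⟩
  have h2 := h _ h1
  obtain ⟨y, hy⟩ := hs (IntermediateField.adjoin k (s : Set K)) Subtype.val_injective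
    (fun a ha => ⟨⟨a, IntermediateField.subset_adjoin _ _ ha⟩, rfl⟩)
  rw [← hy, Subsingleton.elim y 0, map_zero]

theorem PowIndep.formallySmooth (hp : p.Prime) [CharP k p]
    (h : PowIndep k K p) : Algebra.FormallySmooth k K :=
  formallySmooth_of_forall_essFiniteType fun L _ =>
    (h.of_algHom L.val).formallySmooth_of_essFiniteType hp

end

section Reduced

open scoped IntermediateField.algebraAdjoinAdjoin in
theorem isDomain_tensor_adjoin {k L A : Type*} {ι : Type*} [Field k] [Field L] [Algebra k L] [CommRing A]
    [IsDomain A] [Algebra k A] {v : ι → L} (hv : AlgebraicIndependent k v) :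
    IsDomain (A ⊗[k] (IntermediateField.adjoin k (Set.range v))) := by
  set P := Algebra.adjoin k (Set.range v) with hP
  set E := IntermediateField.adjoin k (Set.range v) with hE
  have hPM : IsDomain (A ⊗[k] P) := by
    have e : A ⊗[k] P ≃ₐ[A] MvPolynomial ι A :=
      (Algebra.TensorProduct.congr (AlgEquiv.refl (R := A) (A₁ := A)) hv.aevalEquiv.symm).trans
        (MvPolynomial.algebraTensorAlgEquiv k A)
    exact e.toMulEquiv.isDomain _
  let φ : A ⊗[k] P →ₐ[A] A ⊗[k] E := Algebra.TensorProduct.map (AlgHom.id A A) (IsScalarTower.toAlgHom k P E)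
  let _ : Algebra (A ⊗[k] P) (A ⊗[k] E) := RingHom.toAlgebra (R := A ⊗[k] P) (S := A ⊗[k] E) φ.toRingHom
  have : IsScalarTower A (A ⊗[k] P) (A ⊗[k] E) := IsScalarTower.of_algebraMap_eq' φ.comp_algebraMap.symm
  have hloc := IsLocalization.tensorProduct_tensorProduct_right k A (nonZeroDivisors P) E (by
    ext x
    show φ (1 ⊗ₜ x) = _
    simp [φ])
  refine IsLocalization.isDomain_of_le_nonZeroDivisors (A ⊗[k] E) (R := A ⊗[k] P) (M := (nonZeroDivisors P).map (Algebra.TensorProduct.includeRight (R := k) (A := A))) ?_
  rintro _ ⟨x, hx, rfl⟩
  apply mem_nonZeroDivisors_of_ne_zero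
  have : Function.Injective (Algebra.TensorProduct.includeRight (R := k) (A := A) (B := P)) :=
    Algebra.TensorProduct.includeRight_injective (algebraMap k A).injective
  exact (map_ne_zero_iff _ this).mpr (nonZeroDivisors.ne_zero hx)

theorem isReduced_tensor_of_isSeparable {E L D : Type*} [Field E] [Field L] [Algebra E L] [CommRing D]
    [IsDomain D] [Algebra E D] [Algebra.IsSeparable E L] [EssFiniteType E L] : IsReduced (D ⊗[E] L) := by
  have : FormallyUnramified E L := FormallyUnramified.of_isSeparable E L
  let F := FractionRing D
  have h1 : IsReduced (F ⊗[E] L) := FormallyUnramified.isReduced_of_field F _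
  exact isReduced_of_injective
    (Algebra.TensorProduct.map (IsScalarTower.toAlgHom E D F) (AlgHom.id E L))
    (Module.Flat.rTensor_preserves_injective_linearMap _ (IsFractionRing.injective D F))



theorem isReduced_tensor_tower {k E L A : Type*} [Field k] [Field E] [Field L] [Algebra k E]
    [Algebra k L] [Algebra E L] [IsScalarTower k E L]
    [CommRing A] [Algebra k A] [EssFiniteType k L] (h1 : IsDomain (E ⊗[k] A))
    [Algebra.IsSeparable E L] : IsReduced (A ⊗[k] L) := by
  have : EssFiniteType E L := .of_comp k E L
  have h2 : IsReduced ((E ⊗[k] A) ⊗[E] L) := isReduced_tensor_of_isSeparable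
  have e1 : L ⊗[E] (E ⊗[k] A) ≃ₐ[E] L ⊗[k] A := Algebra.TensorProduct.cancelBaseChange k E E L A
  have e2 : A ⊗[k] L ≃ₐ[k] (E ⊗[k] A) ⊗[E] L :=
    (Algebra.TensorProduct.comm k A L).trans ((e1.symm.trans (Algebra.TensorProduct.comm E _ _)).restrictScalars k)
  exact isReduced_of_injective e2 e2.injective

/-- Separably generated extensions stay reduced after tensoring with any domain (field). -/
theorem isReduced_tensor_of_separablyGenerated {k L A : Type*} {ι : Type*} [Field k] [Field L] [Algebra k L]
    [CommRing A] [IsDomain A] [Algebra k A] [EssFiniteType k L]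
    {v : ι → L} (hv : AlgebraicIndependent k v)
    [Algebra.IsSeparable (IntermediateField.adjoin k (Set.range v)) L] : IsReduced (A ⊗[k] L) := by
  have h1 : IsDomain (A ⊗[k] IntermediateField.adjoin k (Set.range v)) := isDomain_tensor_adjoin hv
  have h1' : IsDomain (IntermediateField.adjoin k (Set.range v) ⊗[k] A) :=
    (Algebra.TensorProduct.comm k (IntermediateField.adjoin k (Set.range v)) A).toMulEquiv.isDomain _
  exact isReduced_tensor_tower h1'

/-- Geometric reducedness of a field extension can be checked on finitely generated
subextensions. -/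
theorem isGeometricallyReduced_of_forall_essFiniteType {k : Type u} {K : Type v} [Field k]
    [Field K] [Algebra k K]
    (h : ∀ L : IntermediateField k K, EssFiniteType k L → IsGeometricallyReduced k L) :
    IsGeometricallyReduced k K := by
  apply IsGeometricallyReduced.of_forall_fg
  rintro B ⟨s, rfl⟩
  have h1 : EssFiniteType k (IntermediateField.adjoin k (s : Set K)) :=
    IntermediateField.essFiniteType_iff.mpr ⟨s, rfl⟩
  have := h _ h1
  exact IsGeometricallyReduced.of_injective
    (Subalgebra.inclusion (S := Algebra.adjoin k (s : Set K))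
      (T := (IntermediateField.adjoin k (s : Set K)).toSubalgebra)
      (IntermediateField.algebra_adjoin_le_adjoin k (s : Set K)))
    (Subalgebra.inclusion_injective _)

/-- MacLane's condition implies geometric reducedness. -/
theorem PowIndep.isGeometricallyReduced {k : Type u} {K : Type v} [Field k] [Field K]
    [Algebra k K] {p : ℕ} (hp : p.Prime) [CharP k p] (h : PowIndep k K p) :
    IsGeometricallyReduced k K := by
  have : ExpChar k p := .prime hp
  apply isGeometricallyReduced_of_forall_essFiniteType
  intro L hL
  obtain ⟨s, hs, H⟩ :=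
    exists_isTranscendenceBasis_and_isSeparable_of_linearIndepOn_pow_of_essFiniteType p hp
      (h.of_algHom L.val)
  have : Algebra.IsSeparable (↥(IntermediateField.adjoin k (Set.range ((↑) : s → L)))) L := by
    convert! H <;> simp
  rw [isGeometricallyReduced_field_iff]
  exact isReduced_tensor_of_separablyGenerated hs.1

/-- Every extension of a perfect field is geometrically reduced. -/
theorem isGeometricallyReduced_of_perfectField (k : Type u) (K : Type v) [Field k] [Field K]
    [Algebra k K] [PerfectField k] : IsGeometricallyReduced k K := by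
  apply isGeometricallyReduced_of_forall_essFiniteType
  intro L hL
  obtain ⟨s, hs, H⟩ := exists_isTranscendenceBasis_and_isSeparable_of_perfectField k L
  have : Algebra.IsSeparable (↥(IntermediateField.adjoin k (Set.range ((↑) : s → L)))) L := by
    convert! H <;> simp
  rw [isGeometricallyReduced_field_iff]
  exact isReduced_tensor_of_separablyGenerated hs.1

end Reduced

/-- Every extension of a perfect field is formally smooth. -/
theorem formallySmooth_of_perfectField (k : Type v) (K : Type u) [Field k] [Field K]
    [Algebra k K] [PerfectField k] : Algebra.FormallySmooth k K :=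
  formallySmooth_of_forall_essFiniteType fun _ _ => inferInstance

end Groth.Agent.CalgC.SepField
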