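import Mathlib.RingTheory.FinitePresentation
import Mathlib.RingTheory.Localization.Away.Basic
import Mathlib.RingTheory.Localization.Finiteness
import Mathlib.RingTheory.Localization.Integer
import Mathlib.RingTheory.Localization.AtPrime.Basic
import Mathlib.RingTheory.Ideal.Quotient.Operations
import Mathlib.RingTheory.RingHom.FinitePresentation

/-!
# Spreading out algebra maps along a localization

* `exists_lift_away`: a map from a finitely presented `R`-algebra into a localization `M⁻¹T` factors through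
  `T[1/m]` for some `m ∈ M`.
* `exists_comp_eq_away`: uniqueness of such a factorization up to enlarging `m`.
* `exists_mul_sub_eq_zero`, `exists_equiv_prod`: splitting of an algebra having a retraction onto the base ring, when the kernel
  is killed by an element that maps to a unit.
-/

set_option autoImplicit false
set_option linter.style.haveILetI false
set_option linter.unnecessarySimpa false

namespace Groth.Agent.CalgC.SpreadAlg

universe v

/-- A map from a finitely presented `R`-algebra `S` into `M⁻¹T` factors through `T[1/m]` for some `m ∈ M` (and all multiples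
`m' ∈ M` of `m`). -/
theorem exists_lift_away {R S T TM : Type*} [CommRing R] [CommRing S] [CommRing T] [CommRing TM]
    [Algebra R S] [Algebra R T] [Algebra R TM] [Algebra T TM] [IsScalarTower R T TM]
    [hfp : Algebra.FinitePresentation R S] (M : Submonoid T) [IsLocalization M TM]
    (ψ : S →ₐ[R] TM) :
    ∃ m ∈ M, ∀ m' : T, m ∣ m' → ∀ (Tm : Type v) [CommRing Tm] [Algebra T Tm] [IsLocalization.Away m' Tm]
      [Algebra R Tm] [IsScalarTower R T Tm],
      ∃ ψ' : S →ₐ[R] Tm, ∀ (lam : Tm →ₐ[T] TM) (x : S), lam (ψ' x) = ψ x := by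
  classical
  obtain ⟨n, φ, hφ, s, hs⟩ := hfp.out
  let y : Fin n → TM := fun i => ψ (φ (MvPolynomial.X i))
  obtain ⟨b, hb⟩ := IsLocalization.exist_integer_multiples_of_finite M y
  choose t ht using hb
  -- the localization away from b
  let Tb := Localization.Away (b : T)
  have hbu : IsUnit (algebraMap T TM (b : T)) := IsLocalization.map_units TM b
  let μ : Tb →ₐ[T] TM := IsLocalization.liftAlgHom (M := Submonoid.powers (b : T)) (f := Algebra.ofId T TM) (by
    rintro ⟨_, k, rfl⟩
    simpa [Algebra.ofId_apply] using hbu.pow k)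
  let z : Fin n → Tb := fun i => IsLocalization.mk' Tb (t i) (⟨b, Submonoid.mem_powers _⟩ : Submonoid.powers (b : T))
  have hz : ∀ i, algebraMap T Tb b * z i = algebraMap T Tb (t i) := fun i => by
    simpa [z] using IsLocalization.mk'_spec' Tb (t i) (⟨b, Submonoid.mem_powers _⟩ : Submonoid.powers (b : T))
  have hμz : ∀ i, μ (z i) = y i := fun i => by
    have h1 := congrArg μ (hz i)
    rw [map_mul, AlgHom.commutes, AlgHom.commutes, ht i, Algebra.smul_def] at h1
    exact hbu.mul_left_cancel h1
  let Z : MvPolynomial (Fin n) R →ₐ[R] Tb := MvPolynomial.aeval z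
  have hZ : ∀ f, μ (Z f) = ψ (φ f) := by
    intro f
    have : (μ.restrictScalars R).comp Z = ψ.comp φ := by
      apply MvPolynomial.algHom_ext
      intro i
      simp only [AlgHom.comp_apply, AlgHom.restrictScalars_apply, Z, MvPolynomial.aeval_X, hμz]
      rfl
    exact congrArg (fun g => g f) this
  -- each generator of the kernel is killed
  have hker : ∀ f : s, ∃ c ∈ M, ∀ a : T, ∀ k : ℕ, algebraMap T Tb (b ^ k) * Z f = algebraMap T Tb a →
      ∃ l : ℕ, b ^ l * (c * a) = 0 := by
    intro f
    obtain ⟨⟨a, ⟨_, k, rfl⟩⟩, ha⟩ := IsLocalization.surj (Submonoid.powers (b : T)) (Z f)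
    have hf0 : φ f = 0 := by
      have : (f : MvPolynomial (Fin n) R) ∈ RingHom.ker φ.toRingHom := hs ▸ Ideal.subset_span f.2
      exact this
    have h0 : algebraMap T TM a = 0 := by
      have h1 := congrArg μ ha
      rw [map_mul, hZ, hf0, map_zero, zero_mul, AlgHom.commutes] at h1
      exact h1.symm
    obtain ⟨c, hc⟩ := (IsLocalization.map_eq_zero_iff M TM a).mp h0
    refine ⟨c, c.2, fun a' k' ha' => ?_⟩
    -- b^k * a' and b^k' * a agree in Tb
    have h2 : algebraMap T Tb (b ^ k * a') = algebraMap T Tb (b ^ k' * a) := by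
      rw [map_mul, map_mul, ← ha', ← ha]
      ring
    obtain ⟨⟨_, l, rfl⟩, hl⟩ := (IsLocalization.eq_iff_exists (Submonoid.powers (b : T)) Tb).mp h2
    refine ⟨l + k, ?_⟩
    calc b ^ (l + k) * (c * a') = c * (b ^ l * (b ^ k * a')) := by ring
      _ = c * (b ^ l * (b ^ k' * a)) := by
          simp only at hl; rw [hl]
      _ = (b ^ l * b ^ k') * (c * a) := by ring
      _ = 0 := by rw [hc, mul_zero]
  choose c hcM hc using hker
  refine ⟨b * ∏ f : s, c f, M.mul_mem b.2 (M.prod_mem fun f _ => hcM f), ?_⟩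
  intro m' hm' Tm _ _ _ _ _
  have hm'u : IsUnit (algebraMap T Tm m') := IsLocalization.Away.algebraMap_isUnit m'
  have hbm : IsUnit (algebraMap T Tm b) :=
    isUnit_of_dvd_unit (map_dvd _ (dvd_trans (Dvd.intro _ rfl) hm')) hm'u
  have hcm : ∀ f : s, IsUnit (algebraMap T Tm (c f)) := fun f =>
    isUnit_of_dvd_unit (map_dvd _ (dvd_trans (dvd_trans (Finset.dvd_prod_of_mem c (Finset.mem_univ f))
      (Dvd.intro_left _ rfl)) hm')) hm'u
  let ν : Tb →ₐ[T] Tm := IsLocalization.liftAlgHom (M := Submonoid.powers (b : T)) (f := Algebra.ofId T Tm) (by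
    rintro ⟨_, k, rfl⟩
    simpa [Algebra.ofId_apply] using hbm.pow k)
  have hνZ : RingHom.ker φ.toRingHom ≤ RingHom.ker ((ν.restrictScalars R).comp Z).toRingHom := by
    rw [← hs, Ideal.span_le]
    intro f hf
    change ν (Z f) = 0
    obtain ⟨⟨a, ⟨_, k, rfl⟩⟩, ha⟩ := IsLocalization.surj (Submonoid.powers (b : T)) (Z f)
    obtain ⟨l, hl⟩ := hc ⟨f, hf⟩ a k (by rw [mul_comm]; exact ha)
    have h3 : algebraMap T Tm a = 0 := by
      have := congrArg (algebraMap T Tm) hl
      rw [map_mul, map_mul, map_pow, map_zero] at this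
      exact (hcm ⟨f, hf⟩).mul_right_eq_zero.mp ((hbm.pow l).mul_right_eq_zero.mp this)
    have h4 := congrArg ν ha
    rw [map_mul, AlgHom.commutes, AlgHom.commutes, h3] at h4
    refine (hbm.pow k).mul_left_eq_zero.mp ?_
    rw [← map_pow]
    exact h4
  refine ⟨AlgHom.liftOfSurjective φ hφ ((ν.restrictScalars R).comp Z) hνZ, ?_⟩
  intro lam x
  obtain ⟨f, rfl⟩ := hφ x
  rw [AlgHom.liftOfSurjective_apply, ← hZ]
  change (lam.comp ν) (Z f) = μ (Z f)
  congr 1
  exact IsLocalization.algHom_ext (Submonoid.powers (b : T)) (by ext)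

/-- Two maps from a finite type `R`-algebra `S` to `T` which agree after composition with `T → M⁻¹T` agree after composition
with `T → T[1/m]`, for some `m ∈ M` (and all multiples of it): more precisely there is `m ∈ M` with
`m * a x = m * b x` for all `x` up to powers. -/
theorem exists_comp_eq_away {R S T TM : Type*} [CommRing R] [CommRing S] [CommRing T] [CommRing TM]
    [Algebra R S] [Algebra R T] [Algebra T TM]
    [hft : Algebra.FiniteType R S] (M : Submonoid T) [IsLocalization M TM]
    (a b : S →ₐ[R] T) (hab : ∀ x, algebraMap T TM (a x) = algebraMap T TM (b x)) :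
    ∃ m ∈ M, ∀ m' : T, m ∣ m' → ∀ (Tm : Type v) [CommRing Tm] [Algebra T Tm] [IsLocalization.Away m' Tm] (x : S),
      algebraMap T Tm (a x) = algebraMap T Tm (b x) := by
  classical
  obtain ⟨s, hs⟩ := hft.out
  have h1 : ∀ x : S, ∃ c ∈ M, c * a x = c * b x := fun x => by
    obtain ⟨c, hc⟩ := (IsLocalization.eq_iff_exists M TM).mp (hab x)
    exact ⟨c, c.2, hc⟩
  choose c hcM hc using h1
  refine ⟨∏ x ∈ s, c x, M.prod_mem fun x _ => hcM x, ?_⟩
  intro m' hm' Tm _ _ _
  have hm'u : IsUnit (algebraMap T Tm m') := IsLocalization.Away.algebraMap_isUnit m'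
  have hcm : ∀ x ∈ s, IsUnit (algebraMap T Tm (c x)) := fun x hx =>
    isUnit_of_dvd_unit (map_dvd _ (dvd_trans (Finset.dvd_prod_of_mem c hx) hm')) hm'u
  letI : Algebra R Tm := ((algebraMap T Tm).comp (algebraMap R T)).toAlgebra
  haveI : IsScalarTower R T Tm := IsScalarTower.of_algebraMap_eq (fun _ => rfl)
  have h2 : (IsScalarTower.toAlgHom R T Tm).comp a = (IsScalarTower.toAlgHom R T Tm).comp b := by
    apply AlgHom.ext_of_adjoin_eq_top hs
    intro x hx
    have := congrArg (algebraMap T Tm) (hc x)
    rw [map_mul, map_mul] at this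
    exact (hcm x hx).mul_left_cancel this
  intro x
  exact congrArg (fun g => g x) h2

/-- If two algebra maps `a, b : S → B` satisfy `h (a x - b x) = 0` for `x` in a set of algebra generators, then
`h (a x - b x) = 0` for all `x`. -/
theorem mul_sub_eq_zero_of_adjoin {R S B : Type*} [CommRing R] [CommRing S] [CommRing B] [Algebra R S] [Algebra R B]
    (a b : S →ₐ[R] B) (h : B)
    (s : Set S) (hs : Algebra.adjoin R s = ⊤) (H : ∀ x ∈ s, h * (a x - b x) = 0) (x : S) :
    h * (a x - b x) = 0 := by
  have hx : x ∈ Algebra.adjoin R s := hs ▸ Algebra.mem_top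
  induction hx using Algebra.adjoin_induction with
  | mem x hx => exact H x hx
  | algebraMap r => simp
  | add x y _ _ hx hy =>
    have : h * (a (x + y) - b (x + y)) = h * (a x - b x) + h * (a y - b y) := by
      rw [map_add, map_add]; ring
    rw [this, hx, hy, add_zero]
  | mul x y _ _ hx hy =>
    have : h * (a (x * y) - b (x * y)) =
      (h * (a x - b x)) * a y + b x * (h * (a y - b y)) := by
      rw [map_mul, map_mul]; ring
    rw [this, hx, hy, mul_zero, zero_mul, add_zero]

/-- A retraction `ρ : B → A` whose kernel is killed by an element `h` with `ρ h` a unit is a projection of a product decomposition.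
-/
theorem exists_equiv_prod {A : Type*} {B : Type v} [CommRing A] [CommRing B] [Algebra A B] (ρ : B →ₐ[A] A) (h : B)
    (hu : IsUnit (ρ h)) (H : ∀ x, ρ x = 0 → h * x = 0) :
    ∃ (C : Type v) (_ : CommRing C) (_ : Algebra A C), Nonempty (B ≃ₐ[A] (A × C)) := by
  obtain ⟨u, hu'⟩ := hu
  let e : B := h * algebraMap A B (↑u⁻¹ : A)
  have hρe : ρ e = 1 := by
    simp only [e, map_mul, AlgHom.commutes, Algebra.algebraMap_self, RingHom.id_apply, ← hu', Units.mul_inv]
  have hek : ∀ x, ρ x = 0 → e * x = 0 := fun x hx => by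
    have := H x hx
    calc e * x = (h * x) * algebraMap A B (↑u⁻¹ : A) := by ring
      _ = 0 := by rw [this, zero_mul]
  have hee : e * e = e := by
    have := hek (1 - e) (by rw [map_sub, hρe, map_one, sub_self])
    rw [mul_sub, mul_one, sub_eq_zero] at this
    exact this.symm
  refine ⟨B ⧸ Ideal.span {e}, inferInstance, inferInstance, ⟨AlgEquiv.ofBijective
    (AlgHom.prod ρ (Ideal.Quotient.mkₐ A (Ideal.span {e}))) ⟨?_, ?_⟩⟩⟩
  · rw [injective_iff_map_eq_zero]
    intro x hx
    have hx1 : ρ x = 0 := congrArg Prod.fst hx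
    have hx2 : Ideal.Quotient.mk (Ideal.span {e}) x = 0 := congrArg Prod.snd hx
    rw [Ideal.Quotient.eq_zero_iff_mem, Ideal.mem_span_singleton] at hx2
    obtain ⟨y, rfl⟩ := hx2
    have := hek _ hx1
    rwa [← mul_assoc, hee] at this
  · rintro ⟨a, c⟩
    obtain ⟨c, rfl⟩ := Ideal.Quotient.mk_surjective c
    refine ⟨e * algebraMap A B a + (1 - e) * c, ?_⟩
    ext
    · simp [hρe]
    · change Ideal.Quotient.mk (Ideal.span {e}) (e * algebraMap A B a + (1 - e) * c) = _
      rw [← sub_eq_zero, ← map_sub, Ideal.Quotient.eq_zero_iff_mem, Ideal.mem_span_singleton]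
      exact ⟨algebraMap A B a - c, by ring⟩

/-- In the situation of `exists_equiv_prod`, `A` is the localization of `B` away from `h`. -/
theorem isLocalization_away_of_retraction {A : Type*} {B : Type*} [CommRing A] [CommRing B] [Algebra A B]
    (ρ : B →ₐ[A] A) (h : B)
    (hu : IsUnit (ρ h)) (H : ∀ x, ρ x = 0 → h * x = 0) :
    letI := ρ.toRingHom.toAlgebra
    IsLocalization.Away h A := by
  letI := ρ.toRingHom.toAlgebra
  refine IsLocalization.Away.of_surjective (fun a => ⟨algebraMap A B a, ?_⟩) hu 1 ?_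
  · exact ρ.commutes a
  · rintro _ ⟨x, hx, rfl⟩
    have hx' : ρ x = 0 := hx
    simpa using H x hx'

/-- Let `S` be a finitely presented `R`-algebra and `q` a prime of `S` over `p` such that `R_p → S_q` is bijective. Then there are
`f ∉ p`, `h ∉ q` and, for all localizations `Rf` of `R` away from `f`, an `R`-algebra map `ρ : S → Rf` such that `ρ h` is a unit
and `h (x - ρ x) = 0` for all `x : S` in any ring receiving `Rf` and `S`. -/
theorem exists_retraction {R S : Type*} [CommRing R] [CommRing S] [Algebra R S]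
    [Algebra.FinitePresentation R S] (q : Ideal S) [q.IsPrime] (p : Ideal R) [p.IsPrime] [q.LiesOver p]
    (hb : Function.Bijective (Localization.localRingHom p q (algebraMap R S) (q.over_def p))) :
    ∃ f : R, f ∉ p ∧ ∃ h : S, h ∉ q ∧ ∀ (Rf : Type v) [CommRing Rf] [Algebra R Rf] [IsLocalization.Away f Rf],
      ∃ ρ : S →ₐ[R] Rf, IsUnit (ρ h) ∧ ∀ (Sf : Type v) [CommRing Sf] [Algebra S Sf] [Algebra R Sf] [IsScalarTower R S Sf]
        [Algebra Rf Sf] [IsScalarTower R Rf Sf] (x : S), algebraMap S Sf h * (algebraMap S Sf x - algebraMap Rf Sf (ρ x)) = 0 := by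
  classical
  set Rp := Localization.AtPrime p
  set Sq := Localization.AtPrime q
  let e : Rp ≃ₐ[R] Sq := AlgEquiv.ofRingEquiv (f := RingEquiv.ofBijective _ hb) (fun r => by
    change Localization.localRingHom p q (algebraMap R S) (q.over_def p) (algebraMap R Rp r) = _
    rw [Localization.localRingHom_to_map, ← IsScalarTower.algebraMap_apply])
  let ψ : S →ₐ[R] Rp := e.symm.toAlgHom.comp (IsScalarTower.toAlgHom R S Sq)
  have heψ : ∀ x, e (ψ x) = algebraMap S Sq x := fun x => e.apply_symm_apply _
  obtain ⟨f₁, hf₁, hlift⟩ := exists_lift_away p.primeCompl ψ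
  obtain ⟨ρ₁, hρ₁⟩ := hlift f₁ dvd_rfl (Localization.Away f₁)
  have hf₁u : IsUnit (algebraMap R Rp f₁) := IsLocalization.map_units Rp (⟨f₁, hf₁⟩ : p.primeCompl)
  let lam : Localization.Away f₁ →ₐ[R] Rp :=
    IsLocalization.liftAlgHom (M := Submonoid.powers f₁) (f := Algebra.ofId R Rp) (by
    rintro ⟨_, k, rfl⟩
    simpa [Algebra.ofId_apply] using hf₁u.pow k)
  have hlam : ∀ x, lam (ρ₁ x) = ψ x := hρ₁ lam
  -- generators
  obtain ⟨s, hs⟩ := (inferInstance : Algebra.FiniteType R S).out
  have hx : ∀ x : S, ∃ k : ℕ, ∃ a : R, ρ₁ x * algebraMap R _ f₁ ^ k = algebraMap R _ a := fun x =>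
    IsLocalization.Away.surj f₁ (ρ₁ x)
  choose k a hka using hx
  have hh : ∀ x : S, ∃ h : S, h ∉ q ∧ h * (algebraMap R S (f₁ ^ k x) * x - algebraMap R S (a x)) = 0 := fun x => by
    have h1 : algebraMap S Sq (algebraMap R S (f₁ ^ k x) * x) = algebraMap S Sq (algebraMap R S (a x)) := by
      have h2 := congrArg (fun z => e (lam z)) (hka x)
      simp only [map_mul, map_pow, AlgHom.commutes, AlgEquiv.commutes, hlam, heψ] at h2
      rw [map_mul, ← IsScalarTower.algebraMap_apply, ← IsScalarTower.algebraMap_apply, ← h2, map_pow, mul_comm]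
    obtain ⟨c, hc⟩ := (IsLocalization.eq_iff_exists q.primeCompl Sq).mp h1
    exact ⟨c, c.2, by rw [mul_sub, hc, sub_self]⟩
  choose h hhq hh0 using hh
  let H : S := ∏ x ∈ s, h x
  have hHq : H ∉ q := (q.primeCompl.prod_mem fun x _ => hhq x : H ∈ q.primeCompl)
  let c : R := a H
  have hcp : c ∉ p := by
    have h2 := congrArg (fun z => e (lam z)) (hka H)
    simp only [map_mul, map_pow, AlgHom.commutes, AlgEquiv.commutes, hlam, heψ] at h2
    have h3 : IsUnit (algebraMap R Sq (a H)) := by
      rw [← h2]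
      refine (IsLocalization.map_units Sq (⟨H, hHq⟩ : q.primeCompl)).mul (IsUnit.pow _ ?_)
      have := hf₁u.map e
      rwa [AlgEquiv.commutes] at this
    have h4 : IsUnit (algebraMap R Rp (a H)) := by
      have := h3.map e.symm
      rwa [AlgEquiv.commutes] at this
    exact (IsLocalization.AtPrime.isUnit_to_map_iff Rp p _).mp h4
  refine ⟨f₁ * c, p.primeCompl.mul_mem hf₁ hcp, H, hHq, ?_⟩
  intro Rf _ _ _
  have hfu : IsUnit (algebraMap R Rf (f₁ * c)) := IsLocalization.Away.algebraMap_isUnit _
  have hf₁u' : IsUnit (algebraMap R Rf f₁) := isUnit_of_dvd_unit (map_dvd _ (Dvd.intro _ rfl)) hfu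
  have hcu' : IsUnit (algebraMap R Rf c) := isUnit_of_dvd_unit (map_dvd _ (Dvd.intro_left _ rfl)) hfu
  let ν : Localization.Away f₁ →ₐ[R] Rf :=
    IsLocalization.liftAlgHom (M := Submonoid.powers f₁) (f := Algebra.ofId R Rf) (by
    rintro ⟨_, k, rfl⟩
    simpa [Algebra.ofId_apply] using hf₁u'.pow k)
  refine ⟨ν.comp ρ₁, ?_, ?_⟩
  · have h2 := congrArg ν (hka H)
    simp only [map_mul, map_pow, AlgHom.commutes] at h2
    rw [AlgHom.comp_apply]
    exact isUnit_of_mul_isUnit_left (h2 ▸ hcu')
  · intro Sf _ _ _ _ _ _ x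
    refine mul_sub_eq_zero_of_adjoin (R := R) (IsScalarTower.toAlgHom R S Sf)
      ((IsScalarTower.toAlgHom R Rf Sf).comp (ν.comp ρ₁)) (algebraMap S Sf H) s hs ?_ x
    intro x hxs
    simp only [IsScalarTower.coe_toAlgHom', AlgHom.comp_apply]
    have hfuS : IsUnit (algebraMap R Sf f₁) := by
      rw [IsScalarTower.algebraMap_apply R Rf Sf]; exact hf₁u'.map _
    refine (hfuS.pow (k x)).mul_left_cancel ?_
    have h2 := congrArg (fun z => algebraMap Rf Sf (ν z)) (hka x)
    simp only [map_mul, map_pow, AlgHom.commutes, ← IsScalarTower.algebraMap_apply] at h2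
    have h3 := congrArg (algebraMap S Sf) (hh0 x)
    simp only [map_mul, map_pow, map_sub, map_zero, ← IsScalarTower.algebraMap_apply] at h3
    obtain ⟨w, hw⟩ := Finset.dvd_prod_of_mem h hxs
    have hHw : H = h x * w := hw
    rw [mul_zero]
    calc algebraMap R Sf f₁ ^ k x * (algebraMap S Sf H * (algebraMap S Sf x - algebraMap Rf Sf (ν (ρ₁ x))))
        = algebraMap S Sf H * (algebraMap R Sf f₁ ^ k x * algebraMap S Sf x -
          algebraMap Rf Sf (ν (ρ₁ x)) * algebraMap R Sf f₁ ^ k x) := by ring
      _ = algebraMap S Sf w * (algebraMap S Sf (h x) * (algebraMap R Sf f₁ ^ k x * algebraMap S Sf x -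
          algebraMap R Sf (a x))) := by rw [h2, hHw, map_mul]; ring
      _ = 0 := by rw [h3, mul_zero]

/-- In the situation of `exists_retraction`, `R[1/f]` is a localization of `S` away from some `g ∉ q`. -/
theorem exists_isLocalization_away {R S : Type v} [CommRing R] [CommRing S] [Algebra R S]
    [Algebra.FinitePresentation R S] (q : Ideal S) [q.IsPrime] (p : Ideal R) [p.IsPrime] [q.LiesOver p]
    (hb : Function.Bijective (Localization.localRingHom p q (algebraMap R S) (q.over_def p))) :
    ∃ f : R, f ∉ p ∧ ∃ g : S, g ∉ q ∧ ∀ (Rf : Type v) [CommRing Rf] [Algebra R Rf] [IsLocalization.Away f Rf],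
      ∃ ρ : S →ₐ[R] Rf, letI := ρ.toRingHom.toAlgebra; IsLocalization.Away g Rf := by
  obtain ⟨f, hf, h, hh, H⟩ := exists_retraction q p hb
  refine ⟨f, hf, h * algebraMap R S f, ?_, ?_⟩
  · refine (q.primeCompl.mul_mem hh ?_ : h * algebraMap R S f ∈ q.primeCompl)
    intro hfq
    exact hf (by rw [q.over_def p]; exact hfq)
  intro Rf _ _ _
  obtain ⟨ρ, hρu, hρ⟩ := H Rf
  refine ⟨ρ, ?_⟩
  letI := ρ.toRingHom.toAlgebra
  have hfu : IsUnit (algebraMap R Rf f) := IsLocalization.Away.algebraMap_isUnit f
  have halg : ∀ x, algebraMap S Rf x = ρ x := fun _ => rfl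
  refine IsLocalization.Away.mk _ ?_ ?_ ?_
  · rw [halg, map_mul, AlgHom.commutes]
    exact hρu.mul hfu
  · intro z
    obtain ⟨n, a, ha⟩ := IsLocalization.Away.surj f z
    refine ⟨n, algebraMap R S a * h ^ n, ?_⟩
    rw [halg, halg, map_mul, AlgHom.commutes, map_mul, AlgHom.commutes, map_pow, ← ha]
    ring
  · intro a b hab
    rw [halg, halg, ← sub_eq_zero, ← map_sub] at hab
    let Sf := Localization.Away (algebraMap R S f)
    let ν : Rf →ₐ[R] Sf := IsLocalization.liftAlgHom (M := Submonoid.powers f) (f := Algebra.ofId R Sf) (by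
      rintro ⟨_, k, rfl⟩
      have : IsUnit (algebraMap S Sf (algebraMap R S f)) := IsLocalization.Away.algebraMap_isUnit _
      rw [← IsScalarTower.algebraMap_apply] at this
      simpa [Algebra.ofId_apply] using this.pow k)
    letI : Algebra Rf Sf := ν.toRingHom.toAlgebra
    haveI : IsScalarTower R Rf Sf := IsScalarTower.of_algebraMap_eq (fun r => (ν.commutes r).symm)
    have h2 := hρ Sf (a - b)
    rw [hab, map_zero, sub_zero, ← map_mul] at h2
    obtain ⟨⟨_, n, rfl⟩, hn⟩ := (IsLocalization.map_eq_zero_iff (Submonoid.powers (algebraMap R S f)) Sf _).mp h2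
    refine ⟨n + 1, ?_⟩
    rw [← sub_eq_zero, ← mul_sub]
    calc (h * algebraMap R S f) ^ (n + 1) * (a - b)
        = h ^ n * algebraMap R S f * (algebraMap R S f ^ n * (h * (a - b))) := by ring
      _ = 0 := by
        simp only at hn
        rw [hn, mul_zero]

/-- Stacks Tag 00QS: let `S`, `S'` be finitely presented `R`-algebras and `𝔮 ⊆ S`, `𝔮' ⊆ S'` primes with `S_𝔮 ≅ S'_{𝔮'}` as
`R`-algebras. Then `S_g ≅ S'_{g'}` as `R`-algebras for some `g ∉ 𝔮`, `g' ∉ 𝔮'`. Here we moreover provide the compatibility with the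
given isomorphism. -/
theorem exists_algEquiv_away {R S S' : Type v} [CommRing R] [CommRing S] [CommRing S'] [Algebra R S]
    [Algebra R S'] [Algebra.FinitePresentation R S] [Algebra.FinitePresentation R S'] (q : Ideal S) [q.IsPrime]
    (q' : Ideal S') [q'.IsPrime] (e : Localization.AtPrime q ≃ₐ[R] Localization.AtPrime q') :
    ∃ (g : S) (g' : S'), g ∉ q ∧ g' ∉ q' ∧ ∃ (ε : Localization.Away g ≃ₐ[R] Localization.Away g'),
      ∀ (lam : Localization.Away g →ₐ[S] Localization.AtPrime q) (lam' : Localization.Away g' →ₐ[S'] Localization.AtPrime q')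
        (x : Localization.Away g), lam' (ε x) = e (lam x) := by
  classical
  obtain ⟨g₁, hg₁, hlift⟩ := exists_lift_away (R := R) (S := S) q'.primeCompl
    (e.toAlgHom.comp (IsScalarTower.toAlgHom R S (Localization.AtPrime q)))
  let T := Localization.Away g₁
  obtain ⟨φ, hφ⟩ := hlift g₁ dvd_rfl T
  letI : Algebra S T := φ.toRingHom.toAlgebra
  have halg : ∀ x, algebraMap S T x = φ x := fun _ => rfl
  haveI : IsScalarTower R S T := IsScalarTower.of_algebraMap_eq (fun r => (φ.commutes r).symm)
  have hg₁u : IsUnit (algebraMap S' (Localization.AtPrime q') g₁) :=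
    IsLocalization.map_units _ (⟨g₁, hg₁⟩ : q'.primeCompl)
  let lam₁ : T →ₐ[S'] Localization.AtPrime q' :=
    IsLocalization.liftAlgHom (M := Submonoid.powers g₁) (f := Algebra.ofId S' (Localization.AtPrime q')) (by
    rintro ⟨_, k, rfl⟩
    simpa [Algebra.ofId_apply] using hg₁u.pow k)
  have hlam₁ : ∀ x : S, lam₁ (φ x) = e (algebraMap S _ x) := hφ lam₁
  letI : Algebra T (Localization.AtPrime q') := lam₁.toRingHom.toAlgebra
  have halg₂ : ∀ x, algebraMap T (Localization.AtPrime q') x = lam₁ x := fun _ => rfl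
  haveI : IsScalarTower S' T (Localization.AtPrime q') := IsScalarTower.of_algebraMap_eq (fun r => (lam₁.commutes r).symm)
  let Q : Ideal T := (IsLocalRing.maximalIdeal (Localization.AtPrime q')).comap (algebraMap T (Localization.AtPrime q'))
  haveI hQ : Q.IsPrime := inferInstance
  have hQq : Q.comap (algebraMap S T) = q := by
    ext x
    rw [Ideal.mem_comap, Ideal.mem_comap, halg, halg₂, hlam₁, IsLocalRing.mem_maximalIdeal, mem_nonunits_iff]
    rw [← not_iff_not, not_not, MulEquiv.isUnit_map]
    exact IsLocalization.AtPrime.isUnit_to_map_iff (Localization.AtPrime q) q x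
  have hQq' : Q.comap (algebraMap S' T) = q' := by
    ext x
    rw [Ideal.mem_comap, Ideal.mem_comap, ← IsScalarTower.algebraMap_apply, IsLocalRing.mem_maximalIdeal, mem_nonunits_iff]
    rw [← not_iff_not, not_not]
    exact IsLocalization.AtPrime.isUnit_to_map_iff (Localization.AtPrime q') q' x
  haveI hlies : Q.LiesOver q := ⟨hQq.symm⟩
  haveI hloc : IsLocalization.AtPrime (Localization.AtPrime q') Q := by
    have h1 : IsLocalization (q'.primeCompl.map (algebraMap S' T)) (Localization.AtPrime q') :=
      IsLocalization.isLocalization_of_submonoid_le T (Localization.AtPrime q') (Submonoid.powers g₁) q'.primeCompl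
        (Submonoid.powers_le.mpr hg₁)
    refine IsLocalization.of_le (q'.primeCompl.map (algebraMap S' T)) Q.primeCompl ?_ ?_
    · rintro _ ⟨x, hx, rfl⟩ h2
      exact hx (by rw [SetLike.mem_coe, ← hQq']; exact h2)
    · intro r hr
      by_contra h2
      exact hr ((IsLocalRing.mem_maximalIdeal _).mpr h2)
  let γ : Localization.AtPrime Q ≃ₐ[T] Localization.AtPrime q' := IsLocalization.algEquiv Q.primeCompl _ _
  have hbij : Function.Bijective (Localization.localRingHom q Q (algebraMap S T) (Q.over_def q)) := by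
    have h1 : Localization.localRingHom q Q (algebraMap S T) (Q.over_def q) =
        (γ.symm.toRingEquiv.toRingHom).comp (e.toRingEquiv.toRingHom) := by
      apply Localization.localRingHom_unique
      intro x
      change γ.symm (e (algebraMap S _ x)) = _
      rw [← hlam₁, AlgEquiv.symm_apply_eq, AlgEquiv.commutes]
      rfl
    rw [h1]
    exact (γ.symm.bijective).comp e.bijective
  haveI : Algebra.FinitePresentation S' T := IsLocalization.Away.finitePresentation g₁
  haveI : Algebra.FinitePresentation R T := Algebra.FinitePresentation.trans R S' T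
  haveI : Algebra.FinitePresentation S T := Algebra.FinitePresentation.of_restrict_scalars_finitePresentation R S T
  obtain ⟨f, hf, g, hg, H⟩ := exists_isLocalization_away (R := S) (S := T) Q q hbij
  obtain ⟨ρ, hρ⟩ := H (Localization.Away f)
  letI : Algebra T (Localization.Away f) := ρ.toRingHom.toAlgebra
  letI : Algebra S' (Localization.Away f) := (ρ.toRingHom.comp (algebraMap S' T)).toAlgebra
  haveI : IsScalarTower S' T (Localization.Away f) := IsScalarTower.of_algebraMap_eq (fun r => rfl)
  haveI : IsScalarTower R S' (Localization.Away f) := IsScalarTower.of_algebraMap_eq (fun r => by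
    change _ = ρ (algebraMap S' T (algebraMap R S' r))
    rw [← IsScalarTower.algebraMap_apply, IsScalarTower.algebraMap_apply R S T, AlgHom.commutes,
      ← IsScalarTower.algebraMap_apply])
  haveI := hρ
  let z : S' := (IsLocalization.Away.sec g₁ g).1
  have hz : Associated (algebraMap S' T z) g := IsLocalization.Away.associated_sec_fst g₁ g
  haveI : IsLocalization.Away (g₁ * z) (Localization.Away f) :=
    IsLocalization.Away.mul_of_associated g₁ z g hz
  let ε' : Localization.Away f ≃ₐ[S'] Localization.Away (g₁ * z) :=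
    IsLocalization.algEquiv (Submonoid.powers (g₁ * z)) _ _
  refine ⟨f, g₁ * z, hf, ?_, ε'.restrictScalars R, ?_⟩
  · refine (q'.primeCompl.mul_mem hg₁ ?_ : g₁ * z ∈ q'.primeCompl)
    intro hz'
    have hz'' : z ∈ Q.comap (algebraMap S' T) := by rw [hQq']; exact hz'
    exact hg ((Ideal.mem_iff_of_associated hz).mp hz'')
  · intro lam lam' x
    have h1 : ((lam'.restrictScalars R).comp (ε'.restrictScalars R).toAlgHom).toRingHom =
        (e.toAlgHom.comp (lam.restrictScalars R)).toRingHom := by
      apply IsLocalization.ringHom_ext (Submonoid.powers f)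
      ext s
      change lam' (ε' (algebraMap S _ s)) = e (lam (algebraMap S _ s))
      rw [AlgHom.commutes, ← hlam₁]
      have h2 : (lam'.toRingHom.comp (ε'.toRingEquiv.toRingHom.comp ρ.toRingHom)) = lam₁.toRingHom := by
        apply IsLocalization.ringHom_ext (Submonoid.powers g₁)
        ext t
        change lam' (ε' (algebraMap S' _ t)) = lam₁ (algebraMap S' _ t)
        rw [AlgEquiv.commutes, AlgHom.commutes, AlgHom.commutes]
      have h3 := congrArg (fun k => k (φ s)) h2
      rw [← ρ.commutes s]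
      exact h3
    exact congrArg (fun k => k x) h1

end Groth.Agent.CalgC.SpreadAlg
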