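import Groth.Agent.CycA.DerShift
import Mathlib.CategoryTheory.Monoidal.Tor
import Mathlib.Algebra.Category.ModuleCat.Monoidal.Basic
import Mathlib.Algebra.Category.ModuleCat.Projective
import Mathlib.Algebra.Category.ModuleCat.Abelian

/-!
# Dimension shifting for left derived functors, on morphisms

For a morphism `φ : S ⟶ S'` of short exact sequences with projective middle terms,
`L_{n+1} F (φ.τ₁) = 0` implies `L_{n+2} F (φ.τ₃) = 0`.
-/

universe v u v' u'

open CategoryTheory CategoryTheory.Limits CategoryTheory.Category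

namespace Groth.Agent.CalgC.TorShift2

open Groth.Agent.CycA.DerShift

section Abs

variable {D : Type u'} [Category.{v'} D]

lemma eq_zero_iff_of_isos [HasZeroMorphisms D] {X Y H K : D} (a : X ≅ H) (b : Y ≅ K) (f : X ⟶ Y)
    (m : H ⟶ K) (h : f ≫ b.hom = a.hom ≫ m) : f = 0 ↔ m = 0 := by
  constructor
  · rintro rfl
    rw [zero_comp] at h
    rw [← cancel_epi a.hom, ← h, comp_zero]
  · rintro rfl
    rw [comp_zero] at h
    rw [← cancel_mono b.hom, h, zero_comp]

variable [Abelian D]

lemma shortComplex_homologyMap_eq_zero_iff {S T S' T' : ShortComplex D} (a : S ≅ S') (b : T ≅ T')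
    (f : S ⟶ T) (g : S' ⟶ T') (h : f ≫ b.hom = a.hom ≫ g) :
    ShortComplex.homologyMap f = 0 ↔ ShortComplex.homologyMap g = 0 := by
  refine eq_zero_iff_of_isos (ShortComplex.homologyMapIso a) (ShortComplex.homologyMapIso b) _ _ ?_
  rw [ShortComplex.homologyMapIso_hom, ShortComplex.homologyMapIso_hom,
    ← ShortComplex.homologyMap_comp, ← ShortComplex.homologyMap_comp, h]

/-- Vanishing of the map in homology read off from the three term short complexes. -/
lemma homologyMap_eq_zero_iff {ι : Type*} {c : ComplexShape ι} {K L : HomologicalComplex D c}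
    (f : K ⟶ L) (i j k : ι) (hi : c.prev j = i) (hk : c.next j = k) :
    HomologicalComplex.homologyMap f j = 0 ↔
      ShortComplex.homologyMap ((HomologicalComplex.shortComplexFunctor' D c i j k).map f) = 0 :=
  shortComplex_homologyMap_eq_zero_iff
    ((HomologicalComplex.natIsoSc' D c i j k hi hk).app K)
    ((HomologicalComplex.natIsoSc' D c i j k hi hk).app L) _ _
    ((HomologicalComplex.natIsoSc' D c i j k hi hk).hom.naturality f)

end Abs

variable {C : Type u} [Category.{v} C] [Abelian C]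

/-- The components of the chain map between spliced complexes. -/
noncomputable def spliceMapF {S S' : ShortComplex C} (φ : S ⟶ S') (Q : ProjectiveResolution S.X₁)
    (Q' : ProjectiveResolution S'.X₁) (ψ : Q.complex ⟶ Q'.complex) :
    ∀ n : ℕ, (spliceComplex S Q).X n ⟶ (spliceComplex S' Q').X n
  | 0 => φ.τ₂
  | n + 1 => ψ.f n

/-- The chain map between spliced complexes. -/
noncomputable def spliceMap {S S' : ShortComplex C} (φ : S ⟶ S') (Q : ProjectiveResolution S.X₁)
    (Q' : ProjectiveResolution S'.X₁) (ψ : Q.complex ⟶ Q'.complex)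
    (hψ : ψ.f 0 ≫ aug Q' = aug Q ≫ φ.τ₁) : spliceComplex S Q ⟶ spliceComplex S' Q' where
  f := spliceMapF φ Q Q' ψ
  comm' := by
    rintro (_ | i) (_ | j) hij
    · simp at hij
    · simp at hij
    · cases i with
      | zero =>
        change ψ.f 0 ≫ (aug Q' ≫ S'.f) = (aug Q ≫ S.f) ≫ φ.τ₂
        rw [← assoc, hψ, assoc, assoc, φ.comm₁₂]
      | succ i =>
        simp at hij
    · have h := ψ.comm i j
      cases i with
      | zero => simp at hij
      | succ i =>
        have hij' : j = i := by simpa using hij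
        subst hij'
        exact h

lemma spliceMap_π {S S' : ShortComplex C} (hS : S.ShortExact) (hS' : S'.ShortExact)
    [Projective S.X₂] [Projective S'.X₂] (φ : S ⟶ S') (Q : ProjectiveResolution S.X₁)
    (Q' : ProjectiveResolution S'.X₁) (ψ : Q.complex ⟶ Q'.complex)
    (hψ : ψ.f 0 ≫ aug Q' = aug Q ≫ φ.τ₁) :
    (spliceMap φ Q Q' ψ hψ).f 0 ≫ (splice hS' Q').π.f 0 = (splice hS Q).π.f 0 ≫ φ.τ₃ := by
  have e1 : (splice hS' Q').π.f 0 = S'.g :=
    ChainComplex.toSingle₀Equiv_symm_apply_f_zero (C := spliceComplex S' Q') (X := S'.X₃) S'.g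
      (aug_f_g S' Q')
  have e2 : (splice hS Q).π.f 0 = S.g :=
    ChainComplex.toSingle₀Equiv_symm_apply_f_zero (C := spliceComplex S Q) (X := S.X₃) S.g
      (aug_f_g S Q)
  rw [e1, e2]
  exact φ.comm₂₃

variable {D : Type u'} [Category.{v'} D] [Abelian D] [HasProjectiveResolutions C]

/-- Dimension shifting on morphisms. -/
theorem leftDerived_map_eq_zero_of_shift (F : C ⥤ D) [F.Additive] {S S' : ShortComplex C}
    (hS : S.ShortExact) (hS' : S'.ShortExact) [Projective S.X₂] [Projective S'.X₂] (φ : S ⟶ S')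
    (n : ℕ) (h : (F.leftDerived (n + 1)).map φ.τ₁ = 0) :
    (F.leftDerived (n + 2)).map φ.τ₃ = 0 := by
  let Q := projectiveResolution S.X₁
  let Q' := projectiveResolution S'.X₁
  let ψ : Q.complex ⟶ Q'.complex := ProjectiveResolution.lift φ.τ₁ Q Q'
  have hψ : ψ.f 0 ≫ aug Q' = aug Q ≫ φ.τ₁ := ProjectiveResolution.lift_commutes_zero _ _ _
  let Ψ := spliceMap φ Q Q' ψ hψ
  have h3 : HomologicalComplex.homologyMap ((F.mapHomologicalComplex _).map ψ) (n + 1) = 0 :=
    (eq_zero_iff_of_isos (Q.isoLeftDerivedObj F (n + 1)) (Q'.isoLeftDerivedObj F (n + 1)) _ _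
      (ProjectiveResolution.isoLeftDerivedObj_hom_naturality φ.τ₁ Q Q' ψ hψ F (n + 1))).1 h
  have h4 : HomologicalComplex.homologyMap ((F.mapHomologicalComplex _).map Ψ) (n + 2) = 0 := by
    rw [homologyMap_eq_zero_iff _ (n + 3) (n + 2) (n + 1) (by simp) (by simp)]
    rw [homologyMap_eq_zero_iff _ (n + 2) (n + 1) n (by simp) (by simp)] at h3
    exact h3
  exact (eq_zero_iff_of_isos ((splice hS Q).isoLeftDerivedObj F (n + 2))
    ((splice hS' Q').isoLeftDerivedObj F (n + 2)) _ _
      (ProjectiveResolution.isoLeftDerivedObj_hom_naturality φ.τ₃ (splice hS Q) (splice hS' Q') Ψ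
        (spliceMap_π hS hS' φ Q Q' ψ hψ) F (n + 2))).2 h4

end Groth.Agent.CalgC.TorShift2
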